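import Cfsg.Agent.S4201

/-!
# Bounds on the class numbers of all subgroups
-/

set_option autoImplicit false
set_option linter.style.haveILetI false

namespace CfsgLib.ClassBound

open Subgroup

/-- Every subgroup of `G` has at most `b` conjugacy classes. -/
def KBound (G : Type*) [Group G] (b : ℕ) : Prop :=
  ∀ H : Subgroup G, Nat.card (ConjClasses H) ≤ b

theorem KBound.mono {G : Type*} [Group G] {a b : ℕ} (h : KBound G a) (hab : a ≤ b) : KBound G b :=
  fun H => (h H).trans hab

theorem card_conjClasses_le (G : Type*) [Group G] [Finite G] :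
    Nat.card (ConjClasses G) ≤ Nat.card G :=
  Nat.card_le_card_of_surjective ConjClasses.mk ConjClasses.mk_surjective

theorem card_conjClasses_le_of_surjective {G H : Type*} [Group G] [Finite G] [Group H] (f : G →* H)
    (hf : Function.Surjective f) : Nat.card (ConjClasses H) ≤ Nat.card (ConjClasses G) :=
  Nat.card_le_card_of_surjective (ConjClasses.map f) (ConjClasses.map_surjective hf)

theorem KBound.of_card {G : Type*} [Group G] [Finite G] {b : ℕ} (h : Nat.card G ≤ b) : KBound G b :=
  fun H => (card_conjClasses_le H).trans ((card_le_card_group H).trans h)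

theorem kbound_card (G : Type*) [Group G] [Finite G] : KBound G (Nat.card G) :=
  KBound.of_card le_rfl

theorem kbound_one_of_subsingleton (G : Type*) [Group G] [Subsingleton G] : KBound G 1 :=
  haveI : Finite G := Finite.of_subsingleton
  KBound.of_card (by rw [Nat.card_unique])

/-- If the kernel of `f` lies in that of the surjection `g` then `g` inherits the bound of the
target of `f`. -/
theorem KBound.of_ker_le {B P R : Type*} [Group B] [Finite B] [Group P] [Finite P] [Group R]
    (f : B →* P) (g : B →* R) (hg : Function.Surjective g) (hk : f.ker ≤ g.ker) {b : ℕ}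
    (h : KBound P b) : KBound R b := by
  intro H
  set H' := H.comap g
  let f' : H' →* P := f.comp H'.subtype
  let g' : H' →* H := (g.comp H'.subtype).codRestrict H fun x => x.2
  have hg' : Function.Surjective g' := fun y => by
    obtain ⟨x, hx⟩ := hg y
    exact ⟨⟨x, mem_comap.2 (hx.symm ▸ y.2)⟩, Subtype.ext hx⟩
  have hk' : f'.rangeRestrict.ker ≤ g'.ker := fun x hx => by
    rw [MonoidHom.ker_rangeRestrict] at hx
    exact MonoidHom.mem_ker.2 (Subtype.ext (MonoidHom.mem_ker.1 (hk (MonoidHom.mem_ker.2
      (MonoidHom.mem_ker.1 hx : f (x : B) = 1)))))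
  let π : f'.range →* H :=
    f'.rangeRestrict.liftOfSurjective f'.rangeRestrict_surjective ⟨g', hk'⟩
  have hπ : ∀ x, π (f'.rangeRestrict x) = g' x := fun x =>
    MonoidHom.liftOfRightInverse_comp_apply _ _ _ ⟨g', hk'⟩ x
  exact (card_conjClasses_le_of_surjective π fun y =>
    (hg' y).elim fun x hx => ⟨f'.rangeRestrict x, (hπ x).trans hx⟩).trans (h f'.range)

theorem KBound.of_injective {G G' : Type*} [Group G] [Finite G] [Group G'] [Finite G'] (f : G →* G')
    (hf : Function.Injective f) {b : ℕ} (h : KBound G' b) : KBound G b :=
  h.of_ker_le f (MonoidHom.id G) Function.surjective_id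
    (by rw [(MonoidHom.ker_eq_bot_iff f).2 hf]; exact bot_le)

theorem KBound.of_surjective {G G' : Type*} [Group G] [Finite G] [Group G'] (f : G →* G')
    (hf : Function.Surjective f) {b : ℕ} (h : KBound G b) : KBound G' b :=
  h.of_ker_le (MonoidHom.id G) f hf (by rw [MonoidHom.ker_id]; exact bot_le)

theorem KBound.subgroup {G : Type*} [Group G] [Finite G] {b : ℕ} (h : KBound G b) (K : Subgroup G) :
    KBound K b :=
  h.of_injective K.subtype K.subtype_injective

theorem KBound.card_le {G : Type*} [Group G] [Finite G] {b : ℕ} (h : KBound G b) :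
    Nat.card (ConjClasses G) ≤ b :=
  (card_conjClasses_le_of_surjective (topEquiv : (⊤ : Subgroup G) ≃* G).toMonoidHom
    fun x => ⟨⟨x, mem_top x⟩, rfl⟩).trans (h ⊤)

/-- Extensions multiply the bounds. -/
theorem KBound.of_hom {G G' : Type*} [Group G] [Finite G] [Group G'] [Finite G'] (f : G →* G')
    {a b : ℕ} (ha : KBound f.ker a) (hb : KBound G' b) : KBound G (a * b) := by
  intro H
  refine (Cfsg.Agent.S4201.result ((f.comp H.subtype).ker)).trans (Nat.mul_le_mul ?_ ?_)
  · have h : KBound (f.comp H.subtype).ker a := ha.of_injective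
      ((H.subtype.comp (f.comp H.subtype).ker.subtype).codRestrict f.ker fun x => x.2)
      fun x y e => Subtype.ext (Subtype.ext (congrArg (fun z : f.ker => (z : G)) e))
    exact h.card_le
  · have h : KBound (H ⧸ (f.comp H.subtype).ker) b := hb.of_injective
      (QuotientGroup.kerLift (f.comp H.subtype)) (QuotientGroup.kerLift_injective _)
    exact h.card_le

/-- Jointly injective maps multiply the bounds. -/
theorem KBound.of_jointly_injective {ι : Type*} (s : Finset ι) {G : Type*} [Group G] [Finite G]
    {P : ι → Type*} [∀ i, Group (P i)] [∀ i, Finite (P i)] (f : ∀ i, G →* P i)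
    (hinj : ∀ x, (∀ i ∈ s, f i x = 1) → x = 1) (b : ι → ℕ) (hb : ∀ i ∈ s, KBound (P i) (b i)) :
    KBound G (∏ i ∈ s, b i) := by
  classical
  induction s using Finset.induction_on generalizing G with
  | empty =>
    haveI : Subsingleton G :=
      ⟨fun x y => (hinj x fun i hi => absurd hi (Finset.notMem_empty i)).trans
        (hinj y fun i hi => absurd hi (Finset.notMem_empty i)).symm⟩
    rw [Finset.prod_empty]
    exact kbound_one_of_subsingleton G
  | insert j t hj ih =>
    rw [Finset.prod_insert hj, mul_comm]
    refine KBound.of_hom (f j) ?_ (hb j (Finset.mem_insert_self j t))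
    refine ih (fun i => (f i).comp (f j).ker.subtype) ?_
      fun i hi => hb i (Finset.mem_insert_of_mem hi)
    intro x hx
    refine Subtype.ext (hinj _ fun i hi => ?_)
    rcases Finset.mem_insert.1 hi with rfl | hi
    · exact MonoidHom.mem_ker.1 x.2
    · exact hx i hi

/-- Few elements with large centralizers give few classes. -/
theorem KBound.of_centralizer {X : Type*} [Group X] [Finite X] (S : Finset X) (h1 : (1 : X) ∈ S)
    {c : ℕ} (hc : 1 ≤ c) (h : ∀ x ∉ S, Nat.card (centralizer ({x} : Set X)) ≤ c) :
    KBound X (S.card + c - 1) := by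
  classical
  intro H
  haveI := Fintype.ofFinite H
  set a := (Finset.univ.filter fun x : H => (x : X) ∈ S).card with ha
  have ha1 : 1 ≤ a := Finset.card_pos.2 ⟨1, by simp [h1]⟩
  have haS : a ≤ S.card :=
    Finset.card_le_card_of_injOn (fun x : H => (x : X)) (fun x hx => by simpa using hx)
      fun x _ y _ e => Subtype.ext e
  have hN : 0 < Fintype.card H := Fintype.card_pos
  have hsum : Nat.card (ConjClasses H) * Fintype.card H ≤
      a * Fintype.card H + (Fintype.card H - a) * c := by
    rw [← Nat.card_eq_fintype_card (α := H), ← card_comm_eq_card_conjClasses_mul_card,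
      Nat.card_congr (Equiv.subtypeProdEquivSigmaSubtype fun u v : H => Commute u v), Nat.card_sigma,
      ← Finset.sum_filter_add_sum_filter_not Finset.univ (fun x : H => (x : X) ∈ S)]
    refine Nat.add_le_add ?_ ?_
    · refine (Finset.sum_le_card_nsmul _ _ (Nat.card H) fun x _ =>
        Nat.card_le_card_of_injective Subtype.val Subtype.val_injective).trans (le_of_eq ?_)
      rw [smul_eq_mul]
    · refine (Finset.sum_le_card_nsmul _ _ c fun x hx => ?_).trans (le_of_eq ?_)
      · refine (Nat.card_le_card_of_injective
          (fun v : {v : H // Commute x v} => (⟨(v : H), mem_centralizer_singleton_iff.2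
            (congrArg Subtype.val v.2.eq).symm⟩ : centralizer ({(x : X)} : Set X)))
          fun u v e => Subtype.ext (Subtype.ext (congrArg Subtype.val e :))).trans
          (h (x : X) (Finset.mem_filter.1 hx).2)
      · rw [smul_eq_mul, Nat.card_eq_fintype_card, Finset.filter_not,
          Finset.card_sdiff_of_subset (Finset.filter_subset _ _), Finset.card_univ]
  have hlt : (Fintype.card H - a) * c < c * Fintype.card H := by
    have haN : a ≤ Fintype.card H := Finset.card_le_univ _
    rw [mul_comm c]
    exact Nat.mul_lt_mul_of_pos_right (by omega) hc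
  have : Nat.card (ConjClasses H) * Fintype.card H < (a + c) * Fintype.card H := by
    rw [add_mul]; omega
  have := Nat.lt_of_mul_lt_mul_right this
  omega

end CfsgLib.ClassBound
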