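import Cfsg.Agent.Lib.ClassBound.Perm
import Mathlib

/-!
# Abelian normal subgroups of irreducible linear groups: a field or a system of blocks
-/

set_option autoImplicit false
set_option linter.style.haveILetI false

namespace CfsgLib.ClassBound

open Subgroup

variable {k : Type*} [Field k] {V : Type*} [AddCommGroup V] [Module k V] {G : Type*} [Group G]

/-- Irreducibility. -/
def Irred (ρ : G →* Module.End k V) : Prop :=
  Nontrivial V ∧ ∀ W : Submodule k V, (∀ g, ∀ v ∈ W, ρ g v ∈ W) → W = ⊥ ∨ W = ⊤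

theorem rep_inv_mul (ρ : G →* Module.End k V) (g : G) : ρ g⁻¹ * ρ g = 1 := by
  rw [← map_mul, inv_mul_cancel, map_one]

theorem rep_mul_inv (ρ : G →* Module.End k V) (g : G) : ρ g * ρ g⁻¹ = 1 := by
  rw [← map_mul, mul_inv_cancel, map_one]

theorem rep_inv_apply (ρ : G →* Module.End k V) (g : G) (v : V) : ρ g⁻¹ (ρ g v) = v := by
  rw [← Module.End.mul_apply, rep_inv_mul, Module.End.one_apply]

theorem rep_apply_inv (ρ : G →* Module.End k V) (g : G) (v : V) : ρ g (ρ g⁻¹ v) = v := by
  rw [← Module.End.mul_apply, rep_mul_inv, Module.End.one_apply]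

/-- The faithful representation of the quotient by the kernel. -/
noncomputable def quotRep (ρ : G →* Module.End k V) : G ⧸ ρ.ker →* Module.End k V :=
  QuotientGroup.lift ρ.ker ρ le_rfl

theorem quotRep_mk (ρ : G →* Module.End k V) (g : G) : quotRep ρ (g : G ⧸ ρ.ker) = ρ g := rfl

theorem quotRep_injective (ρ : G →* Module.End k V) : Function.Injective (quotRep ρ) := by
  refine (injective_iff_map_eq_one _).2 fun x hx => ?_
  obtain ⟨g, rfl⟩ := QuotientGroup.mk_surjective x
  exact (QuotientGroup.eq_one_iff g).2 hx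

theorem Irred.quotRep {ρ : G →* Module.End k V} (h : Irred ρ) : Irred (quotRep ρ) :=
  ⟨h.1, fun W hW => h.2 W fun g => hW (g : G ⧸ ρ.ker)⟩

/-- Conjugation by `ρ g`. -/
noncomputable def conjAlg (ρ : G →* Module.End k V) (g : G) :
    Module.End k V →ₐ[k] Module.End k V where
  toFun x := ρ g * x * ρ g⁻¹
  map_one' := by rw [mul_one, rep_mul_inv]
  map_mul' x y := by
    rw [show ρ g * x * ρ g⁻¹ * (ρ g * y * ρ g⁻¹) = ρ g * x * (ρ g⁻¹ * ρ g) * y * ρ g⁻¹ by
      simp only [mul_assoc], rep_inv_mul, mul_one]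
    simp only [mul_assoc]
  map_zero' := by simp
  map_add' x y := by rw [mul_add, add_mul]
  commutes' r := by
    rw [← Algebra.commutes, mul_assoc, rep_mul_inv, mul_one]

theorem conjAlg_apply (ρ : G →* Module.End k V) (g : G) (x : Module.End k V) :
    conjAlg ρ g x = ρ g * x * ρ g⁻¹ := rfl

theorem conjAlg_conjAlg (ρ : G →* Module.End k V) (g h : G) (x : Module.End k V) :
    conjAlg ρ g (conjAlg ρ h x) = conjAlg ρ (g * h) x := by
  rw [conjAlg_apply, conjAlg_apply, conjAlg_apply, mul_inv_rev, map_mul, map_mul]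
  simp only [mul_assoc]

theorem conjAlg_one (ρ : G →* Module.End k V) (x : Module.End k V) : conjAlg ρ 1 x = x := by
  simp [conjAlg_apply]

/-- The algebra generated by a subgroup. -/
noncomputable def algebraOf (ρ : G →* Module.End k V) (A : Subgroup G) :
    Subalgebra k (Module.End k V) :=
  Algebra.adjoin k (ρ '' A)

theorem mem_algebraOf (ρ : G →* Module.End k V) {A : Subgroup G} {a : G} (ha : a ∈ A) :
    ρ a ∈ algebraOf ρ A :=
  Algebra.subset_adjoin ⟨a, ha, rfl⟩

theorem algebraOf_comm (ρ : G →* Module.End k V) {A : Subgroup G}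
    (hA : ∀ a ∈ A, ∀ b ∈ A, Commute a b) :
    ∀ x ∈ algebraOf ρ A, ∀ y ∈ algebraOf ρ A, x * y = y * x := fun x hx y hy =>
  have h : ∀ a ∈ ρ '' A, ∀ b ∈ ρ '' A, a * b = b * a := by
    rintro _ ⟨a, ha, rfl⟩ _ ⟨b, hb, rfl⟩
    rw [← map_mul, ← map_mul, (hA a ha b hb).eq]
  congrArg Subtype.val ((Algebra.isMulCommutative_adjoin (R := k) h).is_comm.comm
    (⟨x, hx⟩ : algebraOf ρ A) ⟨y, hy⟩)

theorem conjAlg_mem (ρ : G →* Module.End k V) {A : Subgroup G} [hA : A.Normal] (g : G)
    {x : Module.End k V} (hx : x ∈ algebraOf ρ A) : conjAlg ρ g x ∈ algebraOf ρ A := by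
  have h : (algebraOf ρ A).map (conjAlg ρ g) ≤ algebraOf ρ A := by
    rw [algebraOf, AlgHom.map_adjoin]
    refine Algebra.adjoin_mono ?_
    rintro _ ⟨_, ⟨a, ha, rfl⟩, rfl⟩
    exact ⟨g * a * g⁻¹, hA.conj_mem a ha g, by rw [conjAlg_apply, map_mul, map_mul]⟩
  exact h ⟨x, hx, rfl⟩

/-- A decomposition into blocks permuted by the group, given by orthogonal idempotents. -/
structure Blocks (ρ : G →* Module.End k V) where
  t : ℕ
  two_le : 2 ≤ t
  σ : G →* Equiv.Perm (Fin t)
  e : Fin t → Module.End k V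
  mul_self : ∀ i, e i * e i = e i
  orth : ∀ i j, i ≠ j → e i * e j = 0
  sum_eq : ∑ i, e i = 1
  ne_zero : ∀ i, e i ≠ 0
  conj : ∀ g i, ρ g * e i = e (σ g i) * ρ g

theorem isReduced_algebraOf [FiniteDimensional k V] {ρ : G →* Module.End k V} (hirr : Irred ρ)
    {A : Subgroup G} [A.Normal] (hA : ∀ a ∈ A, ∀ b ∈ A, Commute a b) :
    IsReduced (algebraOf ρ A) := by
  set R := algebraOf ρ A
  haveI := hirr.1
  refine ⟨fun x hx => ?_⟩
  -- a minimal invariant subspace for `R` is killed by all nilpotent elements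
  let S : Set (Submodule k V) := {U | U ≠ ⊥ ∧ ∀ y ∈ R, ∀ v ∈ U, y v ∈ U}
  obtain ⟨U, ⟨hU0, hU⟩, hUmin⟩ := wellFounded_lt.has_min S
    ⟨⊤, top_ne_bot, fun _ _ _ _ => Submodule.mem_top⟩
  have hkill : ∀ y : R, IsNilpotent y → ∀ v ∈ U, (y : Module.End k V) v = 0 := by
    intro y ⟨j, hj⟩ v hv
    by_contra hne
    set U' := U.map (y : Module.End k V) with hU'
    have hle : U' ≤ U := by
      rintro _ ⟨w, hw, rfl⟩
      exact hU y y.2 w hw
    have heq : U' = U := by
      refine eq_of_le_of_not_lt hle fun hlt => hUmin U' ⟨fun hb => hne ?_, ?_⟩ hlt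
      · exact (Submodule.mem_bot k).1 (hb ▸ ⟨v, hv, rfl⟩)
      · rintro z hz _ ⟨w, hw, rfl⟩
        refine ⟨z w, hU z hz w hw, ?_⟩
        rw [← Module.End.mul_apply, algebraOf_comm ρ hA _ y.2 _ hz, Module.End.mul_apply]
    have hpow : ∀ l : ℕ, U.map ((y : Module.End k V) ^ l) = U := by
      intro l
      induction l with
      | zero => rw [pow_zero, Module.End.one_eq_id, Submodule.map_id]
      | succ l ih => rw [pow_succ', Module.End.mul_eq_comp, Submodule.map_comp, ih]; exact heq
    refine hU0 ?_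
    rw [← hpow j, ← SubmonoidClass.coe_pow, hj, ZeroMemClass.coe_zero, Submodule.map_zero]
  let W : Submodule k V := ⨅ (y : R) (_ : IsNilpotent y), LinearMap.ker (y : Module.End k V)
  have hW : ∀ v, v ∈ W ↔ ∀ y : R, IsNilpotent y → (y : Module.End k V) v = 0 := fun v => by
    simp [W, Submodule.mem_iInf]
  have htop : W = ⊤ := by
    refine (hirr.2 W fun g v hv => (hW _).2 fun y hy => ?_).resolve_left fun hb => hU0 ?_
    · obtain ⟨j, hj⟩ := hy
      let z : R := ⟨conjAlg ρ g⁻¹ y, conjAlg_mem ρ g⁻¹ y.2⟩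
      have hz : IsNilpotent z := ⟨j, Subtype.ext (by
        rw [SubmonoidClass.coe_pow, ← map_pow, ← SubmonoidClass.coe_pow, hj, ZeroMemClass.coe_zero,
          map_zero])⟩
      have h1 := (hW v).1 hv z hz
      change (conjAlg ρ g⁻¹ (y : Module.End k V)) v = 0 at h1
      rw [conjAlg_apply, inv_inv, Module.End.mul_apply, Module.End.mul_apply] at h1
      have h2 := congrArg (ρ g) h1
      rwa [rep_apply_inv, map_zero] at h2
    · exact (Submodule.eq_bot_iff U).2 fun v hv =>
        (Submodule.mem_bot k).1 (hb ▸ (hW v).2 fun y hy => hkill y hy v hv)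
  apply Subtype.ext
  ext v
  exact (hW v).1 (htop ▸ Submodule.mem_top) x hx

/-- An abelian normal subgroup of an irreducible group generates a field or gives blocks. -/
theorem blocks_or_isField [FiniteDimensional k V] {ρ : G →* Module.End k V} (hirr : Irred ρ)
    (A : Subgroup G) [A.Normal] (hA : ∀ a ∈ A, ∀ b ∈ A, Commute a b) :
    Nonempty (Blocks ρ) ∨ IsField (algebraOf ρ A) := by
  classical
  set R := algebraOf ρ A with hR
  haveI := hirr.1
  letI : CommRing R :=
    { (inferInstance : Ring R) with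
      mul_comm := fun x y => Subtype.ext (algebraOf_comm ρ hA _ x.2 _ y.2) }
  haveI : IsReduced R := isReduced_algebraOf hirr hA
  haveI : IsArtinianRing R := isArtinian_of_tower k inferInstance
  haveI : Nontrivial R :=
    ⟨⟨0, 1, fun h => zero_ne_one (α := Module.End k V) (congrArg Subtype.val h)⟩⟩
  haveI : Fintype (MaximalSpectrum R) := Fintype.ofFinite _
  by_cases h2 : Fintype.card (MaximalSpectrum R) ≤ 1
  · right
    haveI : Subsingleton (MaximalSpectrum R) := Fintype.card_le_one_iff_subsingleton.1 h2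
    haveI : IsLocalRing R := by
      obtain ⟨M, hM⟩ := Ideal.exists_maximal R
      exact IsLocalRing.of_unique_max_ideal ⟨M, hM, fun M' hM' =>
        congrArg MaximalSpectrum.asIdeal (Subsingleton.elim
          (⟨M', hM'⟩ : MaximalSpectrum R) ⟨M, hM⟩)⟩
    exact IsArtinianRing.isField_of_isReduced_of_isLocalRing R
  left
  -- the primitive idempotents
  let E := (IsArtinianRing.equivPi R).toRingEquiv
  let idem : MaximalSpectrum R → R := fun I => E.symm (Pi.single I 1)
  have hidem_mul : ∀ I J, idem I * idem J = if I = J then idem I else 0 := by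
    intro I J
    show E.symm _ * E.symm _ = _
    rw [← map_mul]
    split_ifs with h
    · subst h; rw [← Pi.single_mul, one_mul]
    · rw [show Pi.single (M := fun K : MaximalSpectrum R => R ⧸ K.asIdeal) I 1 * Pi.single J 1 = 0
        from funext fun K => by by_cases hK : K = I <;> simp_all, map_zero]
  have hidem_ne : ∀ I, idem I ≠ 0 := fun I h => by
    have := congrArg (fun z => E z I) h
    simp [idem] at this
  have hidem_sum : ∑ I, idem I = 1 := by
    show ∑ I, E.symm.toRingHom (Pi.single I 1) = 1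
    rw [← map_sum E.symm.toRingHom, ← map_one E.symm.toRingHom]
    refine congrArg E.symm.toRingHom (funext fun J => ?_)
    rw [Finset.sum_apply, Pi.one_apply, Finset.sum_eq_single J] <;> simp +contextual
  let Atom : R → Prop := fun f => f ≠ 0 ∧ f * f = f ∧ ∀ y, y * y = y → f * y = 0 ∨ f * y = f
  have hatom : ∀ I, Atom (idem I) := by
    intro I
    refine ⟨hidem_ne I, (hidem_mul I I).trans (if_pos rfl), fun y hy => ?_⟩
    haveI := I.isMaximal
    letI := Ideal.Quotient.field I.asIdeal
    have hyI : E y I * E y I = E y I := by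
      rw [← Pi.mul_apply, ← map_mul, hy]
    rcases (IsIdempotentElem.iff_eq_zero_or_one.1 hyI) with h | h
    · left
      apply E.injective
      funext J
      rw [map_mul, Pi.mul_apply, map_zero, Pi.zero_apply]
      by_cases hJ : J = I
      · subst hJ; rw [h, mul_zero]
      · simp [idem, hJ]
    · right
      apply E.injective
      funext J
      rw [map_mul, Pi.mul_apply]
      by_cases hJ : J = I
      · subst hJ; rw [h, mul_one]
      · simp [idem, hJ]
  have hatom_eq : ∀ f, Atom f → ∃ I, idem I = f := by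
    intro f ⟨hf0, hff, hf⟩
    obtain ⟨I, hI⟩ : ∃ I, f * idem I ≠ 0 := by
      by_contra! hcon
      exact hf0 (by rw [← mul_one f, ← hidem_sum, Finset.mul_sum]; exact Finset.sum_eq_zero fun I _ => hcon I)
    refine ⟨I, ?_⟩
    have h1 := (hf _ ((hidem_mul I I).trans (if_pos rfl))).resolve_left hI
    have h3 := ((hatom I).2.2 f hff).resolve_left fun h => hI (by rwa [mul_comm])
    rw [mul_comm] at h3
    exact h3.symm.trans h1
  let cj : G → R → R := fun g x => ⟨conjAlg ρ g x, conjAlg_mem ρ g x.2⟩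
  have hcj_mul : ∀ g x y, cj g (x * y) = cj g x * cj g y := fun g x y => Subtype.ext (map_mul _ _ _)
  have hcj_cj : ∀ g h x, cj g (cj h x) = cj (g * h) x := fun g h x =>
    Subtype.ext (conjAlg_conjAlg ρ g h x)
  have hcj_one : ∀ x, cj 1 x = x := fun x => Subtype.ext (conjAlg_one ρ x)
  have hcj_zero : ∀ g, cj g 0 = 0 := fun g => Subtype.ext (map_zero _)
  have hcj_atom : ∀ g f, Atom f → Atom (cj g f) := by
    intro g f ⟨hf0, hff, hf⟩
    refine ⟨fun h => hf0 ?_, by rw [← hcj_mul, hff], fun y hy => ?_⟩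
    · rw [← hcj_one f, ← inv_mul_cancel g, ← hcj_cj, h, hcj_zero]
    · have hy' : cj g⁻¹ y * cj g⁻¹ y = cj g⁻¹ y := by rw [← hcj_mul, hy]
      have e : cj g (cj g⁻¹ y) = y := by rw [hcj_cj, mul_inv_cancel, hcj_one]
      rcases hf _ hy' with h | h
      · left; rw [← e, ← hcj_mul, h, hcj_zero]
      · right; rw [← e, ← hcj_mul, h]
  have hperm : ∀ g I, ∃ J, idem J = cj g (idem I) := fun g I => hatom_eq _ (hcj_atom g _ (hatom I))
  choose π hπ using hperm
  have hidem_inj : Function.Injective idem := fun I J h => by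
    by_contra hne
    have := hidem_mul I J
    rw [if_neg hne, ← h, (hidem_mul I I).trans (if_pos rfl)] at this
    exact hidem_ne I this
  have hπ_mul : ∀ g h I, π g (π h I) = π (g * h) I := fun g h I =>
    hidem_inj (by rw [hπ, hπ, hπ, hcj_cj])
  have hπ_one : ∀ I, π 1 I = I := fun I => hidem_inj (by rw [hπ, hcj_one])
  let σ0 : G →* Equiv.Perm (MaximalSpectrum R) :=
    { toFun := fun g =>
        { toFun := π g
          invFun := π g⁻¹
          left_inv := fun I => by rw [hπ_mul, inv_mul_cancel, hπ_one]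
          right_inv := fun I => by rw [hπ_mul, mul_inv_cancel, hπ_one] }
      map_one' := Equiv.ext fun I => hπ_one I
      map_mul' := fun g h => Equiv.ext fun I => (hπ_mul g h I).symm }
  let en := Fintype.equivFin (MaximalSpectrum R)
  refine ⟨{ t := Fintype.card (MaximalSpectrum R)
            two_le := by omega
            σ := en.permCongrHom.toMonoidHom.comp σ0
            e := fun i => (idem (en.symm i) : R)
            mul_self := fun i => ?_
            orth := fun i j hij => ?_
            sum_eq := ?_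
            ne_zero := fun i h => hidem_ne _ (Subtype.ext h)
            conj := fun g i => ?_ }⟩
  · exact congrArg Subtype.val ((hidem_mul _ _).trans (if_pos rfl))
  · exact congrArg Subtype.val ((hidem_mul _ _).trans (if_neg (en.symm.injective.ne hij)))
  · rw [Equiv.sum_comp en.symm (fun I => ((idem I : R) : Module.End k V))]
    exact (map_sum R.val idem Finset.univ).symm.trans ((congrArg R.val hidem_sum).trans (map_one _))
  · show ρ g * (idem (en.symm i) : R) =
      ((idem (en.symm (en (π g (en.symm i)))) : R) : Module.End k V) * ρ g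
    rw [Equiv.symm_apply_apply, hπ]
    show _ = conjAlg ρ g _ * ρ g
    rw [conjAlg_apply, mul_assoc _ (ρ g⁻¹), rep_inv_mul, mul_one]

namespace Blocks

variable {ρ : G →* Module.End k V} (B : Blocks ρ)

/-- A block. -/
def W (i : Fin B.t) : Submodule k V := LinearMap.range (B.e i)

theorem apply_mem (g : G) {i : Fin B.t} {v : V} (hv : v ∈ B.W i) : ρ g v ∈ B.W (B.σ g i) := by
  obtain ⟨w, rfl⟩ := hv
  exact ⟨ρ g w, by rw [← Module.End.mul_apply, ← B.conj, Module.End.mul_apply]⟩

theorem e_apply_self {i : Fin B.t} {v : V} (hv : v ∈ B.W i) : B.e i v = v := by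
  obtain ⟨w, rfl⟩ := hv
  rw [← Module.End.mul_apply, B.mul_self]

theorem e_apply_ne {i j : Fin B.t} (h : i ≠ j) {v : V} (hv : v ∈ B.W j) : B.e i v = 0 := by
  obtain ⟨w, rfl⟩ := hv
  rw [← Module.End.mul_apply, B.orth i j h, LinearMap.zero_apply]

theorem sum_apply (v : V) : ∑ i, B.e i v = v := by
  rw [← LinearMap.sum_apply, B.sum_eq, Module.End.one_apply]

theorem W_ne_bot (i : Fin B.t) : B.W i ≠ ⊥ := fun h => B.ne_zero i (LinearMap.range_eq_bot.1 h)

variable (hirr : Irred ρ)
include hirr

theorem transitive (i j : Fin B.t) : ∃ g, B.σ g i = j := by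
  by_contra! hcon
  let U : Submodule k V := ⨆ g, B.W (B.σ g i)
  have hU : ∀ g, ∀ v ∈ U, ρ g v ∈ U := by
    intro g v hv
    have hle : U ≤ U.comap (ρ g) := iSup_le fun h w hw => Submodule.mem_iSup_of_mem (g * h) (by
      rw [map_mul, Equiv.Perm.mul_apply]; exact B.apply_mem g hw)
    exact hle hv
  have hne : U ≠ ⊥ := fun hb => B.W_ne_bot i (eq_bot_iff.2 (hb ▸ le_iSup_of_le 1 (by
    rw [map_one, Equiv.Perm.one_apply])))
  have htop := (hirr.2 U hU).resolve_left hne
  refine B.ne_zero j (LinearMap.ext fun v => ?_)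
  have hle : U ≤ LinearMap.ker (B.e j) := iSup_le fun g w hw =>
    LinearMap.mem_ker.2 (B.e_apply_ne (fun e => hcon g e.symm) hw)
  exact LinearMap.mem_ker.1 (hle (htop ▸ Submodule.mem_top (x := v)))

theorem finrank_W_eq [FiniteDimensional k V] (i j : Fin B.t) :
    Module.finrank k (B.W i) = Module.finrank k (B.W j) := by
  have key : ∀ i j, Module.finrank k (B.W i) ≤ Module.finrank k (B.W j) := by
    intro i j
    obtain ⟨g, rfl⟩ := B.transitive hirr i j
    let f : B.W i →ₗ[k] B.W (B.σ g i) := (ρ g).restrict fun v hv => B.apply_mem g hv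
    refine LinearMap.finrank_le_finrank_of_injective (f := f) fun u v e => Subtype.ext ?_
    have e' : ρ g (u : V) = ρ g (v : V) := congrArg Subtype.val e
    rw [← rep_inv_apply ρ g (u : V), e', rep_inv_apply]
  exact le_antisymm (key i j) (key j i)

theorem finrank_eq [FiniteDimensional k V] (i : Fin B.t) :
    Module.finrank k V = B.t * Module.finrank k (B.W i) := by
  classical
  let f : V ≃ₗ[k] ((j : Fin B.t) → B.W j) :=
    { toFun := fun v j => ⟨B.e j v, ⟨v, rfl⟩⟩
      map_add' := fun u v => funext fun j => Subtype.ext (map_add (B.e j) u v)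
      map_smul' := fun c v => funext fun j => Subtype.ext (map_smul (B.e j) c v)
      invFun := fun w => ∑ j, (w j : V)
      left_inv := fun v => B.sum_apply v
      right_inv := fun w => funext fun j => Subtype.ext (by
        show B.e j (∑ l, (w l : V)) = w j
        rw [map_sum, Finset.sum_eq_single j (fun l _ hl => B.e_apply_ne (Ne.symm hl) (w l).2)
          (fun h => absurd (Finset.mem_univ j) h), B.e_apply_self (w j).2]) }
  rw [f.finrank_eq, Module.finrank_pi_fintype,
    Finset.sum_congr rfl fun j _ => B.finrank_W_eq hirr j i, Finset.sum_const, Finset.card_univ,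
    Fintype.card_fin, smul_eq_mul]

omit hirr in
theorem finrank_pos [FiniteDimensional k V] (i : Fin B.t) : 0 < Module.finrank k (B.W i) :=
  Nat.pos_of_ne_zero fun h => B.W_ne_bot i (Submodule.finrank_eq_zero.1 h)

omit hirr

/-- The stabilizer of a block. -/
def stab (i : Fin B.t) : Subgroup G where
  carrier := {g | B.σ g i = i}
  one_mem' := by show B.σ 1 i = i; rw [map_one, Equiv.Perm.one_apply]
  mul_mem' := fun {g h} hg hh => by
    show B.σ (g * h) i = i
    rw [map_mul, Equiv.Perm.mul_apply, hh, hg]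
  inv_mem' := fun {g} hg => by
    show B.σ g⁻¹ i = i
    rw [map_inv, Equiv.Perm.inv_def, Equiv.symm_apply_eq]
    exact hg.symm

theorem ker_le_stab (i : Fin B.t) : B.σ.ker ≤ B.stab i := fun g hg => by
  show B.σ g i = i
  rw [MonoidHom.mem_ker.1 hg, Equiv.Perm.one_apply]

theorem apply_mem_stab {i : Fin B.t} (g : B.stab i) {v : V} (hv : v ∈ B.W i) :
    ρ (g : G) v ∈ B.W i := by
  have h := B.apply_mem (g : G) hv
  rwa [show B.σ (g : G) i = i from g.2] at h

/-- The action of the stabilizer on its block. -/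
noncomputable def res (i : Fin B.t) : B.stab i →* Module.End k (B.W i) where
  toFun g := (ρ (g : G)).restrict fun _ hv => B.apply_mem_stab g hv
  map_one' := LinearMap.ext fun v => Subtype.ext (by
    show ρ (1 : G) (v : V) = v
    rw [map_one, Module.End.one_apply])
  map_mul' g h := LinearMap.ext fun v => Subtype.ext (by
    show ρ ((g : G) * h) (v : V) = ρ (g : G) (ρ (h : G) v)
    rw [map_mul, Module.End.mul_apply])

theorem res_apply (i : Fin B.t) (g : B.stab i) (v : B.W i) :
    ((B.res i g v : B.W i) : V) = ρ (g : G) v := rfl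

include hirr in
theorem irred_res (i : Fin B.t) : Irred (B.res i) := by
  refine ⟨Submodule.nontrivial_iff_ne_bot.2 (B.W_ne_bot i), fun U hU => ?_⟩
  by_cases hb : U = ⊥
  · exact Or.inl hb
  right
  let U' : Submodule k V := ⨆ g, (U.map (B.W i).subtype).map (ρ g)
  have hU' : U' = ⊤ := by
    refine (hirr.2 U' fun g v hv => ?_).resolve_left fun h => hb ?_
    · have hle : U' ≤ U'.comap (ρ g) := iSup_le fun h w hw => Submodule.mem_iSup_of_mem (g * h) (by
        obtain ⟨u, hu, rfl⟩ := hw
        exact ⟨u, hu, by rw [map_mul, Module.End.mul_apply]⟩)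
      exact hle hv
    · refine (Submodule.eq_bot_iff U).2 fun u hu => Subtype.ext ((Submodule.mem_bot k).1 (h ▸ ?_))
      exact Submodule.mem_iSup_of_mem 1 ⟨u, ⟨u, hu, rfl⟩, by rw [map_one, Module.End.one_apply]⟩
  rw [eq_top_iff]
  intro w _
  have hle : U' ≤ (U.map (B.W i).subtype).comap (B.e i) := by
    refine iSup_le fun g v hv => ?_
    obtain ⟨_, ⟨u, hu, rfl⟩, rfl⟩ := hv
    show B.e i (ρ g ((B.W i).subtype u)) ∈ U.map (B.W i).subtype
    by_cases hg : B.σ g i = i
    · exact ⟨B.res i ⟨g, hg⟩ u, hU ⟨g, hg⟩ u hu,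
        (B.e_apply_self (B.apply_mem_stab ⟨g, hg⟩ u.2)).symm⟩
    · rw [Submodule.subtype_apply, B.e_apply_ne (Ne.symm hg) (B.apply_mem g u.2)]
      exact Submodule.zero_mem _
  obtain ⟨u, hu, e⟩ := hle (hU' ▸ Submodule.mem_top (x := (w : V)))
  rw [B.e_apply_self w.2] at e
  exact (Subtype.ext e : u = w) ▸ hu

/-- The kernel of the block action embeds in the product of the block groups. -/
theorem jointly_injective (hinj : Function.Injective ρ) (g : B.σ.ker)
    (h : ∀ i, B.res i ⟨g, B.ker_le_stab i g.2⟩ = 1) : g = 1 := by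
  refine Subtype.ext (hinj (LinearMap.ext fun v => ?_))
  rw [OneMemClass.coe_one, map_one, Module.End.one_apply]
  conv_lhs => rw [← B.sum_apply v]
  rw [map_sum]
  conv_rhs => rw [← B.sum_apply v]
  refine Finset.sum_congr rfl fun i _ => ?_
  exact congrArg Subtype.val (LinearMap.congr_fun (h i) ⟨B.e i v, ⟨v, rfl⟩⟩)

/-- Bounds for the block groups give a bound for the whole group. -/
theorem kbound [Finite G] (hsol : Group.IsSolvable G) (hinj : Function.Injective ρ) {b : ℕ}
    (hb : ∀ i, KBound (B.stab i ⧸ (B.res i).ker) b) : KBound G (b ^ B.t * 3 ^ (B.t - 1)) := by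
  have h2 : KBound (G ⧸ B.σ.ker) (3 ^ (B.t - 1)) :=
    (permBound B.t).of_quot hsol B.σ (Fintype.card_fin _)
  refine KBound.of_hom (QuotientGroup.mk' B.σ.ker) ?_ h2
  rw [QuotientGroup.ker_mk']
  have h := KBound.of_jointly_injective (G := B.σ.ker)
    (P := fun i => B.stab i ⧸ (B.res i).ker) Finset.univ
    (fun i => (QuotientGroup.mk' (B.res i).ker).comp (inclusion (B.ker_le_stab i)))
    (fun g hg => B.jointly_injective hinj g fun i => by
      have h1 := (QuotientGroup.eq_one_iff _).1 (hg i (Finset.mem_univ i))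
      exact MonoidHom.mem_ker.1 h1)
    (fun _ => b) fun i _ => hb i
  simpa using h

end Blocks

end CfsgLib.ClassBound
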