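import Cfsg.Agent.Lib.ClassBound.Linear
import Mathlib

/-!
# Class numbers modulo the Fitting subgroup of solvable complex linear groups
-/

set_option autoImplicit false
set_option linter.style.haveILetI false
set_option maxHeartbeats 800000

namespace CfsgLib.ClassBound

open Subgroup

theorem kbound_fitting_of_maps {X : Type*} [Group X] [Finite X] [(Cfsg.fittingSubgroup X).Normal]
    (B : Subgroup X) [B.Normal] {ι : Type} [Fintype ι] {P : ι → Type*} [∀ i, Group (P i)]
    [∀ i, Finite (P i)] [∀ i, (Cfsg.fittingSubgroup (P i)).Normal] (f : ∀ i, B →* P i)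
    (hinj : ∀ x, (∀ i, f i x = 1) → x = 1) (b : ι → ℕ)
    (hb : ∀ i, KBound (P i ⧸ Cfsg.fittingSubgroup (P i)) (b i)) {c : ℕ} (hc : KBound (X ⧸ B) c) :
    KBound (X ⧸ Cfsg.fittingSubgroup X) ((∏ i, b i) * c) := by
  classical
  let N : Subgroup B := ⨅ i, (Cfsg.fittingSubgroup (P i)).comap (f i)
  haveI : N.Normal := normal_iInf_normal fun i => inferInstance
  have hNle : ∀ i, N ≤ (Cfsg.fittingSubgroup (P i)).comap (f i) := fun i => iInf_le _ i
  have hN : Group.IsNilpotent N := by
    haveI : ∀ i, Group.IsNilpotent (Cfsg.fittingSubgroup (P i)) := fun i =>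
      CfsgLib.Fitting.fitting_isNilpotent
    let g : N →* (∀ i, Cfsg.fittingSubgroup (P i)) :=
      MonoidHom.pi fun i => ((f i).comp N.subtype).codRestrict _ fun x => hNle i x.2
    refine CfsgLib.Fitting.isNilpotent_of_le (K := (⊤ : Subgroup N)) ?_ le_top |> fun h =>
      Group.nilpotent_of_mulEquiv (_h := h) topEquiv
    haveI := Subgroup.isNilpotent g.range
    haveI : Group.IsNilpotent N := Group.nilpotent_of_mulEquiv (G := g.range)
      (MonoidHom.ofInjective ((injective_iff_map_eq_one g).2 fun x hx => Subtype.ext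
        (hinj x fun i => congrArg Subtype.val (congrFun hx i)))).symm
    infer_instance
  have hNF : N.map B.subtype ≤ Cfsg.fittingSubgroup X :=
    (map_mono (CfsgLib.Fitting.le_fitting inferInstance hN)).trans
      ((CfsgLib.Fitting.map_fitting_of_normal inferInstance).trans_le inf_le_left)
  have hBN : KBound (B ⧸ N) (∏ i, b i) :=
    KBound.of_jointly_injective (P := fun i => P i ⧸ Cfsg.fittingSubgroup (P i)) Finset.univ
      (fun i => QuotientGroup.map N (Cfsg.fittingSubgroup (P i)) (f i) (hNle i))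
      (fun q hq => by
        obtain ⟨x, rfl⟩ := QuotientGroup.mk_surjective q
        refine (QuotientGroup.eq_one_iff x).2 (mem_iInf.2 fun i => ?_)
        exact (QuotientGroup.eq_one_iff (f i x)).1 (hq i (Finset.mem_univ i)))
      b fun i _ => hb i
  set F := Cfsg.fittingSubgroup X with hF
  let g : X ⧸ F →* X ⧸ (B ⊔ F) := QuotientGroup.map F (B ⊔ F) (MonoidHom.id X) fun x hx =>
    (le_sup_right : F ≤ B ⊔ F) hx
  refine KBound.of_hom g ?_ ?_
  · let h : B ⧸ N →* X ⧸ F := QuotientGroup.map N F B.subtype fun x hx => hNF ⟨x, hx, rfl⟩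
    have hrange : g.ker ≤ h.range := fun q hq => by
      obtain ⟨x, rfl⟩ := QuotientGroup.mk_surjective q
      have hx : x ∈ B ⊔ F := (QuotientGroup.eq_one_iff x).1 hq
      obtain ⟨u, hu, v, hv, rfl⟩ := mem_sup_of_normal_right.1 hx
      refine ⟨((⟨u, hu⟩ : B) : B ⧸ N), ?_⟩
      show ((u : X) : X ⧸ F) = ((u * v : X) : X ⧸ F)
      rw [QuotientGroup.mk_mul, (QuotientGroup.eq_one_iff v).2 hv, mul_one]
    exact (hBN.of_surjective h.rangeRestrict h.rangeRestrict_surjective).of_injective
      (inclusion hrange) (inclusion_injective hrange)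
  · refine hc.of_surjective (QuotientGroup.map B (B ⊔ F) (MonoidHom.id X) fun x hx =>
      (le_sup_left : B ≤ B ⊔ F) hx) fun q => ?_
    obtain ⟨x, rfl⟩ := QuotientGroup.mk_surjective q
    exact ⟨(x : X ⧸ B), rfl⟩

variable {X : Type} [Group X] [Finite X] {V : Type} [AddCommGroup V] [Module ℂ V]

/-- An invariant subspace has an invariant complement. -/
theorem exists_invariant_compl (ρ : X →* Module.End ℂ V) (W : Submodule ℂ V)
    (hW : ∀ g, ∀ v ∈ W, ρ g v ∈ W) : ∃ U : Submodule ℂ V, IsCompl W U ∧ ∀ g, ∀ v ∈ U, ρ g v ∈ U := by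
  classical
  haveI : Fintype X := Fintype.ofFinite X
  obtain ⟨U₀, hU₀⟩ := W.exists_isCompl
  let p : Module.End ℂ V := W.subtype ∘ₗ W.projectionOnto U₀ hU₀
  have hp : ∀ v, p v ∈ W := fun v => (W.projectionOnto U₀ hU₀ v).2
  have hp' : ∀ v ∈ W, p v = v := fun v hv => by
    show ((W.projectionOnto U₀ hU₀ v : W) : V) = v
    rw [Submodule.projectionOnto_apply_left hU₀ ⟨v, hv⟩]
  let q : Module.End ℂ V := (Fintype.card X : ℂ)⁻¹ • ∑ g, ρ g * p * ρ g⁻¹
  have hq : ∀ v, q v ∈ W := fun v => by
    simp only [q, LinearMap.smul_apply, LinearMap.sum_apply, Module.End.mul_apply]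
    exact W.smul_mem _ (W.sum_mem fun g _ => hW g _ (hp _))
  have hq' : ∀ v ∈ W, q v = v := fun v hv => by
    simp only [q, LinearMap.smul_apply, LinearMap.sum_apply, Module.End.mul_apply]
    rw [Finset.sum_congr rfl fun g _ => by rw [hp' _ (hW g⁻¹ v hv), rep_apply_inv],
      Finset.sum_const, Finset.card_univ, ← Nat.cast_smul_eq_nsmul ℂ, smul_smul,
      inv_mul_cancel₀ (by exact_mod_cast Fintype.card_ne_zero), one_smul]
  have hcomm : ∀ h, q * ρ h = ρ h * q := fun h => by
    simp only [q, smul_mul_assoc, mul_smul_comm, Finset.sum_mul, Finset.mul_sum]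
    congr 1
    rw [← Equiv.sum_comp (Equiv.mulLeft h) fun g => ρ g * p * ρ g⁻¹ * ρ h]
    refine Finset.sum_congr rfl fun g _ => ?_
    simp only [Equiv.coe_mulLeft, map_mul, mul_inv_rev, mul_assoc, rep_inv_mul, mul_one]
  refine ⟨LinearMap.ker (q.codRestrict W hq), LinearMap.isCompl_of_proj fun w =>
    Subtype.ext (hq' w w.2), fun g v hv => ?_⟩
  have hv' : q v = 0 := congrArg Subtype.val (LinearMap.mem_ker.1 hv)
  refine LinearMap.mem_ker.2 (Subtype.ext ?_)
  show q (ρ g v) = 0
  rw [← Module.End.mul_apply, hcomm, Module.End.mul_apply, hv', map_zero]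

/-- The restriction to an invariant subspace. -/
noncomputable def restrictRep (ρ : X →* Module.End ℂ V) (W : Submodule ℂ V)
    (hW : ∀ g, ∀ v ∈ W, ρ g v ∈ W) : X →* Module.End ℂ W where
  toFun g := (ρ g).restrict (hW g)
  map_one' := LinearMap.ext fun v => Subtype.ext (by
    show ρ (1 : X) (v : V) = v
    rw [map_one, Module.End.one_apply])
  map_mul' g h := LinearMap.ext fun v => Subtype.ext (by
    show ρ (g * h) (v : V) = ρ g (ρ h (v : V))
    rw [map_mul, Module.End.mul_apply])

/-- The bound for solvable complex linear groups. -/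
def ComplexBound (n : ℕ) : Prop :=
  ∀ (X : Type) [Group X] [Finite X] (V : Type) [AddCommGroup V] [Module ℂ V] [FiniteDimensional ℂ V]
    (ρ : X →* Module.End ℂ V), Group.IsSolvable X → Function.Injective ρ →
    Module.finrank ℂ V = n → [(Cfsg.fittingSubgroup X).Normal] →
      KBound (X ⧸ Cfsg.fittingSubgroup X) (3 ^ (n - 1))

theorem complexBound : ∀ n, ComplexBound n := by
  intro n
  induction n using Nat.strong_induction_on with
  | _ n ih =>
  intro X _ _ V _ _ _ ρ hsol hinj hn _
  classical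
  haveI := hsol
  rcases Nat.eq_zero_or_pos n with rfl | hpos
  · haveI : Subsingleton V := Module.finrank_zero_iff.1 hn
    haveI : Subsingleton X := ⟨fun g g' => hinj (LinearMap.ext fun v => Subsingleton.elim _ _)⟩
    haveI : Subsingleton (X ⧸ Cfsg.fittingSubgroup X) :=
      (QuotientGroup.mk_surjective).subsingleton
    exact kbound_one_of_subsingleton _
  haveI : Nontrivial V := Module.nontrivial_of_finrank_pos (R := ℂ) (hn ▸ hpos)
  by_cases hirr : Irred ρ
  case neg =>
    obtain ⟨W, hW, hW0, hWt⟩ : ∃ W : Submodule ℂ V, (∀ g, ∀ v ∈ W, ρ g v ∈ W) ∧ W ≠ ⊥ ∧ W ≠ ⊤ := by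
      by_contra! h
      exact hirr ⟨inferInstance, fun W hW => or_iff_not_imp_left.2 (h W hW)⟩
    obtain ⟨U, hWU, hU⟩ := exists_invariant_compl ρ W hW
    have hd := Submodule.finrank_add_eq_of_isCompl hWU
    rw [hn] at hd
    have hW1 : 1 ≤ Module.finrank ℂ W := Submodule.one_le_finrank_iff.2 hW0
    have hU0 : U ≠ ⊥ := fun h => hWt (eq_top_of_isCompl_bot (h ▸ hWU))
    have hU1 : 1 ≤ Module.finrank ℂ U := Submodule.one_le_finrank_iff.2 hU0
    let S : Bool → Submodule ℂ V := fun i => cond i W U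
    have hS : ∀ i, ∀ g, ∀ v ∈ S i, ρ g v ∈ S i := fun i => by cases i <;> assumption
    let r : ∀ i, X →* Module.End ℂ (S i) := fun i => restrictRep ρ (S i) (hS i)
    haveI : ∀ i, (Cfsg.fittingSubgroup (X ⧸ (r i).ker)).Normal := fun i => fitting_normal _
    have hlt : ∀ i, Module.finrank ℂ (S i) < n := fun i => by cases i <;> simp only [S, cond] <;> omega
    have h1 : KBound (X ⧸ (⊤ : Subgroup X)) 1 := by
      haveI := QuotientGroup.subsingleton_quotient_top (G := X)
      exact kbound_one_of_subsingleton _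
    refine (kbound_fitting_of_maps (⊤ : Subgroup X) (P := fun i => X ⧸ (r i).ker)
      (fun i => (QuotientGroup.mk' (r i).ker).comp (⊤ : Subgroup X).subtype) ?_
      (fun i => 3 ^ (Module.finrank ℂ (S i) - 1))
      (fun i => ih _ (hlt i) _ (S i) (quotRep (r i)) inferInstance (quotRep_injective _) rfl) h1).mono ?_
    · intro x hx
      refine Subtype.ext (hinj (LinearMap.ext fun v => ?_))
      have hfix : ∀ i, ∀ w ∈ S i, ρ (x : X) w = w := fun i w hw => by
        have h2 : r i (x : X) = 1 := (QuotientGroup.eq_one_iff _).1 (hx i)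
        exact congrArg Subtype.val (LinearMap.congr_fun h2 ⟨w, hw⟩)
      obtain ⟨w, hw, u, hu, rfl⟩ := Submodule.mem_sup.1 (hWU.sup_eq_top ▸ Submodule.mem_top (x := v))
      rw [map_add, hfix true w hw, hfix false u hu]
      rw [OneMemClass.coe_one, map_one, Module.End.one_apply]
    · rw [Fintype.prod_bool, mul_one, ← pow_add]
      refine Nat.pow_le_pow_right (by norm_num) ?_
      simp only [S, cond]
      omega
  by_cases hblocks : Nonempty (Blocks ρ)
  · obtain ⟨B⟩ := hblocks
    have hi : Fin B.t := ⟨0, by have := B.two_le; omega⟩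
    have hd := B.finrank_pos hi
    have hfr := B.finrank_eq hirr hi
    have hlt : Module.finrank ℂ (B.W hi) < n := by
      rw [← hn, hfr]; exact lt_mul_left hd B.two_le
    haveI : ∀ i, (Cfsg.fittingSubgroup (B.stab i ⧸ (B.res i).ker)).Normal := fun i => fitting_normal _
    refine (kbound_fitting_of_maps B.σ.ker (P := fun i => B.stab i ⧸ (B.res i).ker)
      (fun i => (QuotientGroup.mk' (B.res i).ker).comp (inclusion (B.ker_le_stab i))) ?_
      (fun _ => 3 ^ (Module.finrank ℂ (B.W hi) - 1))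
      (fun i => ih _ hlt _ (B.W i) (quotRep (B.res i)) inferInstance
        (quotRep_injective _) (B.finrank_W_eq hirr i hi))
      ((permBound B.t).of_quot hsol B.σ (Fintype.card_fin _))).mono ?_
    · exact fun g hg => B.jointly_injective hinj g fun i =>
        MonoidHom.mem_ker.1 ((QuotientGroup.eq_one_iff _).1 (hg i))
    · rw [Finset.prod_const, Finset.card_univ, Fintype.card_fin, ← pow_mul, ← pow_add]
      refine Nat.pow_le_pow_right (by norm_num) ?_
      rw [← hn, hfr]
      obtain ⟨d, hd'⟩ : ∃ d, Module.finrank ℂ (B.W hi) = d + 1 := ⟨Module.finrank ℂ (B.W hi) - 1, by omega⟩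
      obtain ⟨t, ht⟩ : ∃ t, B.t = t + 1 := ⟨B.t - 1, by have := B.two_le; omega⟩
      rw [hd', ht, Nat.add_sub_cancel, Nat.add_sub_cancel]
      have e : (t + 1) * (d + 1) = d * (t + 1) + t + 1 := by ring
      omega
  -- every abelian normal subgroup acts as scalars
  let ρ' : (⊤ : Subgroup X) →* Module.End ℂ V := ρ.comp (⊤ : Subgroup X).subtype
  have hset : Setting (⊤ : Subgroup X) ρ' := by
    refine ⟨hsol, inferInstance, inferInstance, fun x y e => Subtype.ext (hinj e),
      fun A hA _ hAc a ha => ?_⟩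
    haveI := hA
    have hfield := (blocks_or_isField hirr A hAc).resolve_left hblocks
    letI : Field (algebraOf ρ A) := hfield.toField
    haveI : Algebra.IsIntegral ℂ (algebraOf ρ A) := Algebra.IsIntegral.of_finite ℂ _
    obtain ⟨c, hc⟩ := (IsAlgClosed.algebraMap_bijective_of_isIntegral (k := ℂ)).2
      (⟨ρ (a : X), mem_algebraOf ρ ha⟩ : algebraOf ρ A)
    exact ⟨c, ((congrArg Subtype.val hc).symm.trans (Algebra.algebraMap_eq_smul_one c))⟩
  obtain ⟨m, hm1, hmn, -, -, hbound⟩ := hset.structure_bound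
  haveI := fitting_normal (⊤ : Subgroup X)
  have hb := hbound fun p a hp ha _ => @pieceBound_of_linBound p a ⟨hp⟩ ha fun _ => linBound _
  refine (hb.mono (Nat.pow_le_pow_right (by norm_num) (show m - 1 ≤ n - 1 by omega))).of_ker_le
    (QuotientGroup.mk' (Cfsg.fittingSubgroup (⊤ : Subgroup X)))
    ((QuotientGroup.mk' (Cfsg.fittingSubgroup X)).comp (⊤ : Subgroup X).subtype)
    ((QuotientGroup.mk'_surjective _).comp fun x => ⟨⟨x, mem_top x⟩, rfl⟩) fun x hx => ?_
  rw [QuotientGroup.ker_mk'] at hx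
  rw [← MonoidHom.comap_ker, QuotientGroup.ker_mk', mem_comap]
  have h2 := (CfsgLib.Fitting.map_fitting_of_normal (inferInstance : (⊤ : Subgroup X).Normal)).le
    (mem_map_of_mem (⊤ : Subgroup X).subtype hx)
  exact h2.1

end CfsgLib.ClassBound
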