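import Cfsg.Agent.Lib.ClassBound.Pairing
import Mathlib

/-!
# The quotient by the Fitting subgroup splits into symplectic pieces
-/

set_option autoImplicit false
set_option linter.style.haveILetI false
set_option maxHeartbeats 800000

namespace CfsgLib.ClassBound

open Subgroup
open scoped commutatorElement

variable {k : Type*} [Field k] {V : Type*} [AddCommGroup V] [Module k V] {X : Type} [Group X]
  [Finite X] {C : Subgroup X} {ρ : C →* Module.End k V}

theorem arith_pieces {a b : ℕ} (ha : 1 ≤ a) (hb : 1 ≤ b) : (a - 1) + (b - 1) ≤ a * b - 1 := by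
  obtain ⟨a, rfl⟩ : ∃ c, a = c + 1 := ⟨a - 1, by omega⟩
  obtain ⟨b, rfl⟩ : ∃ c, b = c + 1 := ⟨b - 1, by omega⟩
  have : (a + 1) * (b + 1) = a * b + a + b + 1 := by ring
  omega

/-- Preimage of an element modulo the scalars. -/
theorem mem_zC_of_mk_eq {M : Subgroup X} [((zC C).subgroupOf M).Normal] {a b : M}
    (h : (a : M ⧸ (zC C).subgroupOf M) = b) : (a : X)⁻¹ * b ∈ zC C :=
  mem_subgroupOf.1 (QuotientGroup.eq.1 h)

/-- A faithful irreducible action on an elementary abelian group is bounded by the piece bound. -/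
theorem kbound_of_faithful_action {K : Type} [Group K] [Finite K] (hK : Group.IsSolvable K)
    {W : Type} [AddCommGroup W] {p a : ℕ} [Fact p.Prime] [Module (ZMod p) W] [Finite W]
    (act : K → W →+ W) (h1 : ∀ w, act 1 w = w) (hmul : ∀ g g' w, act (g * g') w = act g (act g' w))
    (hinj : ∀ g, (∀ w, act g w = w) → g = 1) (ha : 1 ≤ a) (hcard : Nat.card W = p ^ (2 * a))
    (hmin : ∀ U : AddSubgroup W, (∀ g, ∀ q ∈ U, act g q ∈ U) → U = ⊥ ∨ U = ⊤)
    (hpiece : PieceBound p a) : KBound K (3 ^ (p ^ a - 1)) := by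
  haveI : FiniteDimensional (ZMod p) W := Module.Finite.of_finite
  let σ : K →* Module.End (ZMod p) W :=
    { toFun := fun g => AddMonoidHom.toZModLinearMap p (act g)
      map_one' := LinearMap.ext fun w => h1 w
      map_mul' := fun g g' => LinearMap.ext fun w => hmul g g' w }
  have hfr : Module.finrank (ZMod p) W = 2 * a :=
    Nat.pow_right_injective (Fact.out : p.Prime).two_le
      ((FiniteField.pow_finrank_eq_natCard p W).trans hcard)
  haveI : Nontrivial W :=
    Module.nontrivial_of_finrank_pos (R := ZMod p) (M := W) (by omega)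
  refine hpiece K W σ hK ((injective_iff_map_eq_one σ).2 fun g hg => hinj g fun w =>
    LinearMap.congr_fun hg w) ⟨inferInstance, fun U hU => ?_⟩ hfr
  rcases hmin U.toAddSubgroup (fun g q hq => hU g q hq) with h | h
  · exact Or.inl ((Submodule.eq_bot_iff U).2 fun w hw =>
      AddSubgroup.mem_bot.1 (h ▸ (hw : w ∈ U.toAddSubgroup)))
  · exact Or.inr (eq_top_iff.2 fun w _ =>
      (h.symm ▸ AddSubgroup.mem_top _ : w ∈ U.toAddSubgroup))

/-- An irreducible action on an elementary abelian group is bounded by the piece bound. -/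
theorem kbound_range_of_pieceBound {X : Type} [Group X] [Finite X] (hX : Group.IsSolvable X)
    {Q : Type} [CommGroup Q] [Finite Q] (act : X →* MulAut Q) {p a : ℕ} [Fact p.Prime]
    (hexp : ∀ q : Q, q ^ p = 1) (ha : 1 ≤ a) (hcard : Nat.card Q = p ^ (2 * a))
    (hmin : ∀ U : Subgroup Q, (∀ g, ∀ q ∈ U, act g q ∈ U) → U = ⊥ ∨ U = ⊤)
    (hpiece : PieceBound p a) : KBound act.range (3 ^ (p ^ a - 1)) := by
  letI iM : Module (ZMod p) (Additive Q) := AddCommGroup.zmodModule fun w =>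
    Additive.toMul.injective (hexp (Additive.toMul w))
  haveI := hX
  refine kbound_of_faithful_action (Group.isSolvable_of_surjective act.rangeRestrict_surjective)
    (W := Additive Q) (fun g => MonoidHom.toAdditive (g : MulAut Q).toMonoidHom)
    (fun w => rfl) (fun g g' w => rfl)
    (fun g hg => Subtype.ext (MulEquiv.ext fun q =>
      Additive.ofMul.injective (hg (Additive.ofMul q))))
    ha hcard (fun U hU => ?_) hpiece
  rcases hmin U.toSubgroup' (fun g q hq => hU ⟨act g, ⟨g, rfl⟩⟩ _ hq) with h | h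
  · exact Or.inl (eq_bot_iff.2 fun w hw => Additive.toMul.injective
      (Subgroup.mem_bot.1 (h ▸ (hw : Additive.toMul w ∈ U.toSubgroup'))))
  · exact Or.inr (eq_top_iff.2 fun w _ =>
      (h.symm ▸ Subgroup.mem_top _ : Additive.toMul w ∈ U.toSubgroup'))

namespace Setting

variable (h : Setting C ρ)
include h

/-- Bound on the action on a minimal piece of dimension two. -/
theorem kbound_two {M : Subgroup X} (hM : M.Normal) (hZ : zC C ≤ M) (hMF : M ≤ fitC C) {p : ℕ}
    [hp : Fact p.Prime] (hel : ∀ x ∈ M, x ^ p ∈ zC C) (hidx : (zC C).relIndex M = p ^ 2)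
    [(kerMod C M).Normal] : KBound (C ⧸ kerMod C M) (3 ^ (p - 1)) := by
  classical
  haveI := hM
  haveI := h.normal
  haveI := h.solvable
  haveI := zC_normal C
  have hMC : M ≤ C := hMF.trans (fitC_le C)
  have hcomm : ∀ x ∈ M, ∀ y ∈ M, ⁅x, y⁆ ∈ zC C := fun x hx y hy =>
    h.commutator_fitC x (hMF hx) y (hMF hy)
  obtain ⟨u, hu, v, hv, huv⟩ : ∃ u ∈ M, ∃ v ∈ M, ⁅u, v⁆ ≠ 1 := by
    by_contra! hcon
    have hle : M ≤ zC C := h.eq_zC_of_abelian hM hMC fun a ha b hb =>
      commutatorElement_eq_one_iff_commute.1 (hcon a ha b hb)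
    rw [relIndex_eq_one.2 hle] at hidx
    have := Nat.one_lt_pow (n := 2) (by norm_num) hp.out.one_lt
    omega
  -- the pairing
  have hpw : ∀ x y : X, x ∈ M → y ∈ M → ∀ i j : ℕ, ⁅x ^ i, y ^ j⁆ = ⁅x, y⁆ ^ (i * j) := by
    intro x y hx hy i j
    have h1 : ∀ j : ℕ, ⁅x, y ^ j⁆ = ⁅x, y⁆ ^ j := by
      intro j
      induction j with
      | zero => simp
      | succ j ih =>
        rw [pow_succ, commutator_mul_right (C := C) (pow_mem (hMC hy) j) (hcomm x hx y hy), ih,
          pow_succ]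
    rw [commutator_pow_left (C := C) (hMC hx) (hcomm x hx _ (pow_mem hy j)), h1, ← pow_mul, mul_comm]
  set ζ : zC C := ⟨⁅u, v⁆, hcomm u hu v hv⟩ with hζ
  have hζp : ζ ^ p = 1 := Subtype.ext (by
    show ⁅u, v⁆ ^ p = 1
    rw [← commutator_pow_left (C := C) (hMC hu) (hcomm u hu v hv),
      commutatorElement_eq_one_iff_commute]
    exact (commute_zC (hel u hu) (hMC hv)).symm)
  have hζo : orderOf ζ = p := orderOf_eq_prime hζp fun e => huv (congrArg Subtype.val e)
  -- coordinates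
  have hcoord : ∀ x ∈ M, ∃ a b : ZMod p, (u ^ a.val * v ^ b.val)⁻¹ * x ∈ zC C := by
    intro x hx
    let f : ZMod p × ZMod p → M ⧸ (zC C).subgroupOf M := fun ab =>
      ((⟨u ^ ab.1.val * v ^ ab.2.val, mul_mem (pow_mem hu _) (pow_mem hv _)⟩ : M) :
        M ⧸ (zC C).subgroupOf M)
    have hf : Function.Injective f := by
      intro ⟨a, b⟩ ⟨a', b'⟩ e
      set z := (u ^ a.val * v ^ b.val)⁻¹ * (u ^ a'.val * v ^ b'.val) with hz
      have hzz : z ∈ zC C := mem_zC_of_mk_eq e
      have e2 : u ^ a'.val * v ^ b'.val = u ^ a.val * v ^ b.val * z := by rw [hz]; group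
      have hmul : ∀ w ∈ M, ∀ i j : ℕ, ⁅u ^ i * v ^ j, w⁆ = ⁅v ^ j, w⁆ * ⁅u ^ i, w⁆ := fun w hw i j =>
        commutator_mul_left (C := C) (pow_mem (hMC hu) i) (hcomm _ (pow_mem hv j) w hw)
      have hcz : ∀ w ∈ M, ⁅z, w⁆ = 1 := fun w hw =>
        commutatorElement_eq_one_iff_commute.2 (commute_zC hzz (hMC hw)).symm
      have hboth : ∀ w ∈ M, ⁅v ^ b'.val, w⁆ * ⁅u ^ a'.val, w⁆ = ⁅v ^ b.val, w⁆ * ⁅u ^ a.val, w⁆ := by
        intro w hw
        rw [← hmul w hw, ← hmul w hw, e2, commutator_mul_left (C := C)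
          (mul_mem (pow_mem (hMC hu) _) (pow_mem (hMC hv) _)) (by rw [hcz w hw]; exact one_mem _),
          hcz w hw, one_mul]
      have h1 := hboth v hv
      have hvv : ∀ j : ℕ, ⁅v ^ j, v⁆ = 1 := fun j =>
        commutatorElement_eq_one_iff_commute.2 ((Commute.refl v).pow_left j)
      have huu : ∀ j : ℕ, ⁅u ^ j, u⁆ = 1 := fun j =>
        commutatorElement_eq_one_iff_commute.2 ((Commute.refl u).pow_left j)
      rw [hvv, hvv, one_mul, one_mul, ← pow_one v, hpw u v hu hv, hpw u v hu hv, mul_one, mul_one] at h1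
      have h2 := hboth u hu
      rw [huu, huu, mul_one, mul_one] at h2
      have hinv : ∀ j : ℕ, ⁅v ^ j, u⁆ = (⁅u, v⁆ ^ j)⁻¹ := fun j => by
        rw [← commutatorElement_inv, ← pow_one u, hpw u v hu hv, one_mul, pow_one]
      rw [hinv, hinv, inv_inj] at h2
      have inj : ∀ i j : ZMod p, ⁅u, v⁆ ^ i.val = ⁅u, v⁆ ^ j.val → i = j := by
        intro i j e'
        have e3 : ζ ^ i.val = ζ ^ j.val := Subtype.ext e'
        rw [pow_eq_pow_iff_modEq, hζo, Nat.ModEq, Nat.mod_eq_of_lt (ZMod.val_lt i),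
          Nat.mod_eq_of_lt (ZMod.val_lt j)] at e3
        exact ZMod.val_injective p e3
      exact Prod.ext (inj _ _ h1).symm (inj _ _ h2).symm
    have hcard : Nat.card (ZMod p × ZMod p) = Nat.card (M ⧸ (zC C).subgroupOf M) := by
      rw [Nat.card_prod, Nat.card_zmod, ← index_eq_card]
      exact (sq p).symm.trans hidx.symm
    obtain ⟨⟨a, b⟩, e⟩ := (hf.bijective_of_nat_card_le hcard.ge).2 ((⟨x, hx⟩ : M) : M ⧸ _)
    exact ⟨a, b, mem_zC_of_mk_eq e⟩
  choose cu cv hcuv using hcoord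
  have hconjM : ∀ (g : C), ∀ x ∈ M, (g : X) * x * (g : X)⁻¹ ∈ M := fun g x hx => hM.conj_mem x hx _
  -- uniqueness of coordinates
  have huniq : ∀ x (hx : x ∈ M) (a b : ZMod p), (u ^ a.val * v ^ b.val)⁻¹ * x ∈ zC C →
      cu x hx = a ∧ cv x hx = b := by
    intro x hx a b hab
    set z := (u ^ a.val * v ^ b.val)⁻¹ * x with hz
    set z' := (u ^ (cu x hx).val * v ^ (cv x hx).val)⁻¹ * x with hz'
    have hval : ∀ w ∈ M, ∀ c d : ℕ, (u ^ c * v ^ d)⁻¹ * x ∈ zC C →
        ⁅x, w⁆ = ⁅v ^ d, w⁆ * ⁅u ^ c, w⁆ := by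
      intro w hw c d hcd
      have e : x = u ^ c * v ^ d * ((u ^ c * v ^ d)⁻¹ * x) := by group
      have h0 : ⁅(u ^ c * v ^ d)⁻¹ * x, w⁆ = 1 :=
        commutatorElement_eq_one_iff_commute.2 (commute_zC hcd (hMC hw)).symm
      conv_lhs => rw [e]
      rw [commutator_mul_left (C := C) (mul_mem (pow_mem (hMC hu) _) (pow_mem (hMC hv) _))
        (by rw [h0]; exact one_mem _), h0, one_mul,
        commutator_mul_left (C := C) (pow_mem (hMC hu) c) (hcomm _ (pow_mem hv d) w hw)]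
    have inj : ∀ i j : ZMod p, ⁅u, v⁆ ^ i.val = ⁅u, v⁆ ^ j.val → i = j := by
      intro i j e'
      have e3 : ζ ^ i.val = ζ ^ j.val := Subtype.ext e'
      rw [pow_eq_pow_iff_modEq, hζo, Nat.ModEq, Nat.mod_eq_of_lt (ZMod.val_lt i),
        Nat.mod_eq_of_lt (ZMod.val_lt j)] at e3
      exact ZMod.val_injective p e3
    have hvv : ∀ j : ℕ, ⁅v ^ j, v⁆ = 1 := fun j =>
      commutatorElement_eq_one_iff_commute.2 ((Commute.refl v).pow_left j)
    have huu : ∀ j : ℕ, ⁅u ^ j, u⁆ = 1 := fun j =>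
      commutatorElement_eq_one_iff_commute.2 ((Commute.refl u).pow_left j)
    have hinv : ∀ j : ℕ, ⁅v ^ j, u⁆ = (⁅u, v⁆ ^ j)⁻¹ := fun j => by
      rw [← commutatorElement_inv, ← pow_one u, hpw u v hu hv, one_mul, pow_one]
    have huv' : ∀ i : ℕ, ⁅u ^ i, v⁆ = ⁅u, v⁆ ^ i := fun i =>
      commutator_pow_left (C := C) (hMC hu) (hcomm u hu v hv) i
    have h1 := (hval v hv _ _ (hcuv x hx)).symm.trans (hval v hv _ _ hab)
    rw [hvv, hvv, one_mul, one_mul, huv', huv'] at h1
    have h2 := (hval u hu _ _ (hcuv x hx)).symm.trans (hval u hu _ _ hab)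
    rw [huu, huu, mul_one, mul_one, hinv, hinv, inv_inj] at h2
    exact ⟨inj _ _ h1, inj _ _ h2⟩
  let mat : C → Matrix (Fin 2) (Fin 2) (ZMod p) := fun g =>
    !![cu _ (hconjM g u hu), cu _ (hconjM g v hv); cv _ (hconjM g u hu), cv _ (hconjM g v hv)]
  have hzconj : ∀ (g : C) (z : X), z ∈ zC C → (g : X) * z * (g : X)⁻¹ ∈ zC C :=
    fun g z hz => (zC_normal C).conj_mem z hz _
  have hmodz : ∀ a b c : X, a ∈ M → b ∈ M → a⁻¹ * b ∈ zC C → b⁻¹ * c ∈ zC C → a⁻¹ * c ∈ zC C :=
    fun a b c _ _ h1 h2 => by simpa [mul_assoc] using mul_mem h1 h2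
  have hdet : ∀ g : C, (mat g).det = 1 := by
    intro g
    rw [Matrix.det_fin_two]
    show cu _ (hconjM g u hu) * cv _ (hconjM g v hv) - cu _ (hconjM g v hv) * cv _ (hconjM g u hu) = 1
    set A := cu _ (hconjM g u hu) with hA
    set D := cv _ (hconjM g v hv) with hD
    set B := cu _ (hconjM g v hv) with hB
    set Cc := cv _ (hconjM g u hu) with hCc
    have e1 : ⁅(g : X) * u * (g : X)⁻¹, (g : X) * v * (g : X)⁻¹⁆ = ⁅u, v⁆ := by
      have h1 : (g : X) * ⁅u, v⁆ * (g : X)⁻¹ = ⁅u, v⁆ := by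
        rw [(commute_zC (hcomm u hu v hv) g.2).eq, mul_inv_cancel_right]
      conv_rhs => rw [← h1]
      simp only [commutatorElement_def]; group
    have hz1 := hcuv _ (hconjM g u hu)
    have hz2 := hcuv _ (hconjM g v hv)
    rw [← hA, ← hCc] at hz1
    rw [← hB, ← hD] at hz2
    set a' := u ^ A.val * v ^ Cc.val with ha'
    set b' := u ^ B.val * v ^ D.val with hb'
    have ha'M : a' ∈ M := mul_mem (pow_mem hu _) (pow_mem hv _)
    have hb'M : b' ∈ M := mul_mem (pow_mem hu _) (pow_mem hv _)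
    have e2 : ⁅(g : X) * u * (g : X)⁻¹, (g : X) * v * (g : X)⁻¹⁆ = ⁅a', b'⁆ := by
      have ea : (g : X) * u * (g : X)⁻¹ = a' * (a'⁻¹ * ((g : X) * u * (g : X)⁻¹)) := by group
      have eb : (g : X) * v * (g : X)⁻¹ = b' * (b'⁻¹ * ((g : X) * v * (g : X)⁻¹)) := by group
      rw [ea, eb]
      generalize a'⁻¹ * ((g : X) * u * (g : X)⁻¹) = z1 at hz1
      generalize b'⁻¹ * ((g : X) * v * (g : X)⁻¹) = z2 at hz2
      have hc1 : ∀ w ∈ C, ⁅z1, w⁆ = 1 := fun w hw =>
        commutatorElement_eq_one_iff_commute.2 (commute_zC hz1 hw).symm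
      have hc2 : ∀ w ∈ C, ⁅w, z2⁆ = 1 := fun w hw =>
        commutatorElement_eq_one_iff_commute.2 (commute_zC hz2 hw)
      rw [commutator_mul_left (C := C) (hMC ha'M)
          (by rw [hc1 _ (mul_mem (hMC hb'M) hz2.1)]; exact one_mem _),
        hc1 _ (mul_mem (hMC hb'M) hz2.1), one_mul,
        commutator_mul_right (C := C) (hMC hb'M) (by rw [hc2 _ (hMC ha'M)]; exact one_mem _),
        hc2 _ (hMC ha'M), mul_one]
    have e3 : ⁅a', b'⁆ = ⁅u, v⁆ ^ (A.val * D.val) * (⁅u, v⁆ ^ (Cc.val * B.val))⁻¹ := by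
      have hmulr : ∀ w ∈ M, ⁅w, b'⁆ = ⁅w, u ^ B.val⁆ * ⁅w, v ^ D.val⁆ := fun w hw =>
        commutator_mul_right (C := C) (pow_mem (hMC hu) _) (hcomm w hw _ (pow_mem hv _))
      rw [ha', commutator_mul_left (C := C) (pow_mem (hMC hu) _) (hcomm _ (pow_mem hv _) _ hb'M),
        hmulr _ (pow_mem hv _), hmulr _ (pow_mem hu _), hpw v u hv hu, hpw v v hv hv,
        hpw u u hu hu, hpw u v hu hv, commutatorElement_self, commutatorElement_self, one_pow,
        one_pow, mul_one, one_mul, ← commutatorElement_inv u v, inv_pow]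
      exact ((Commute.refl ⁅u, v⁆).pow_pow _ _).inv_left.eq
    have e4 : ζ ^ (A.val * D.val) = ζ ^ (1 + Cc.val * B.val) := Subtype.ext (by
      show ⁅u, v⁆ ^ (A.val * D.val) = ⁅u, v⁆ ^ (1 + Cc.val * B.val)
      rw [pow_add, pow_one, ← mul_inv_eq_iff_eq_mul, ← e3, ← e2, e1])
    rw [pow_eq_pow_iff_modEq, hζo, ← ZMod.natCast_eq_natCast_iff, Nat.cast_add, Nat.cast_one,
      Nat.cast_mul, Nat.cast_mul, ZMod.natCast_zmod_val, ZMod.natCast_zmod_val,
      ZMod.natCast_zmod_val, ZMod.natCast_zmod_val] at e4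
    linear_combination e4
  have hlin : ∀ (g : C) (a b : ZMod p) x, x ∈ M → (u ^ a.val * v ^ b.val)⁻¹ * x ∈ zC C →
      ∀ hgx : (g : X) * x * (g : X)⁻¹ ∈ M,
      cu _ hgx = mat g 0 0 * a + mat g 0 1 * b ∧ cv _ hgx = mat g 1 0 * a + mat g 1 1 * b := by
    intro g a b x hx hab hgx
    refine huniq _ hgx _ _ ?_
    letI : CommGroup (M ⧸ (zC C).subgroupOf M) :=
      { (inferInstance : Group (M ⧸ (zC C).subgroupOf M)) with
        mul_comm := fun q r => by
          obtain ⟨q, rfl⟩ := QuotientGroup.mk_surjective q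
          obtain ⟨r, rfl⟩ := QuotientGroup.mk_surjective r
          rw [← QuotientGroup.mk_mul, ← QuotientGroup.mk_mul, QuotientGroup.eq, mem_subgroupOf]
          have hz := hcomm (r : X)⁻¹ (inv_mem r.2) (q : X)⁻¹ (inv_mem q.2)
          simpa [commutatorElement_def, mul_assoc] using hz }
    let π : M →* M ⧸ (zC C).subgroupOf M := QuotientGroup.mk' _
    let U : M ⧸ (zC C).subgroupOf M := π ⟨u, hu⟩
    let W : M ⧸ (zC C).subgroupOf M := π ⟨v, hv⟩
    have hpowU : ∀ q : M ⧸ (zC C).subgroupOf M, q ^ p = 1 := fun q => by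
      obtain ⟨q, rfl⟩ := QuotientGroup.mk_surjective q
      rw [← QuotientGroup.mk_pow, QuotientGroup.eq_one_iff, mem_subgroupOf]
      exact hel q q.2
    have hval : ∀ (q : M ⧸ (zC C).subgroupOf M) (s t : ZMod p),
        q ^ (s + t).val = q ^ s.val * q ^ t.val ∧ q ^ (s * t).val = (q ^ s.val) ^ t.val := by
      intro q s t
      constructor
      · rw [← pow_add, ZMod.val_add]; exact (pow_eq_pow_mod _ (hpowU q)).symm
      · rw [← pow_mul, ZMod.val_mul]; exact (pow_eq_pow_mod _ (hpowU q)).symm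
    let cj : M →* M := (MulAut.conjNormal (g : X)).toMonoidHom
    have hrel : ∀ (w : X) (hw : w ∈ M), π ⟨w, hw⟩ = U ^ (cu w hw).val * W ^ (cv w hw).val := by
      intro w hw
      rw [← map_pow, ← map_pow, ← map_mul]
      exact (QuotientGroup.eq.2 (mem_subgroupOf.2 (hcuv w hw))).symm
    have e0 : π ⟨(g : X) * x * (g : X)⁻¹, hgx⟩ =
        π (cj ⟨u, hu⟩) ^ a.val * π (cj ⟨v, hv⟩) ^ b.val := by
      rw [← map_pow π, ← map_pow π, ← map_mul π, ← map_pow cj, ← map_pow cj, ← map_mul cj]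
      refine (QuotientGroup.eq.2 (mem_subgroupOf.2 ?_)).symm
      have h1 := hzconj g _ hab
      show ((g : X) * (u ^ a.val * v ^ b.val) * (g : X)⁻¹)⁻¹ * ((g : X) * x * (g : X)⁻¹) ∈ zC C
      simpa [mul_assoc] using h1
    have eu : π (cj ⟨u, hu⟩) = U ^ (mat g 0 0).val * W ^ (mat g 1 0).val := hrel _ (hconjM g u hu)
    have ev : π (cj ⟨v, hv⟩) = U ^ (mat g 0 1).val * W ^ (mat g 1 1).val := hrel _ (hconjM g v hv)
    have e5 : π ⟨(g : X) * x * (g : X)⁻¹, hgx⟩ =
        U ^ (mat g 0 0 * a + mat g 0 1 * b).val * W ^ (mat g 1 0 * a + mat g 1 1 * b).val := by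
      rw [e0, eu, ev, mul_pow, mul_pow, (hval _ _ _).1, (hval _ _ _).1, (hval _ _ _).2, (hval _ _ _).2,
        (hval _ _ _).2, (hval _ _ _).2]
      exact mul_mul_mul_comm _ _ _ _
    rw [← map_pow, ← map_pow, ← map_mul] at e5
    exact mem_zC_of_mk_eq e5.symm
  let f0 : C →* Matrix.SpecialLinearGroup (Fin 2) (ZMod p) :=
    MonoidHom.mk' (fun g => ⟨mat g, hdet g⟩) fun g g' => by
      apply Subtype.ext
      show mat (g * g') = mat g * mat g'
      have step : ∀ (w : X) (hw : w ∈ M),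
          cu _ (hconjM (g * g') w hw) = mat g 0 0 * cu _ (hconjM g' w hw) +
            mat g 0 1 * cv _ (hconjM g' w hw) ∧
          cv _ (hconjM (g * g') w hw) = mat g 1 0 * cu _ (hconjM g' w hw) +
            mat g 1 1 * cv _ (hconjM g' w hw) := by
        intro w hw
        have e : ((g * g' : C) : X) * w * ((g * g' : C) : X)⁻¹ =
            (g : X) * ((g' : X) * w * (g' : X)⁻¹) * (g : X)⁻¹ := by simp [mul_assoc]
        have h1 := hlin g _ _ _ (hconjM g' w hw) (hcuv _ (hconjM g' w hw)) (e ▸ hconjM (g * g') w hw)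
        convert h1 using 3 <;> simp only [e]
      obtain ⟨h1, h2⟩ := step u hu
      obtain ⟨h3, h4⟩ := step v hv
      ext i j
      rw [Matrix.mul_apply, Fin.sum_univ_two]
      fin_cases i <;> fin_cases j
      · exact h1
      · exact h3
      · exact h2
      · exact h4
  have hker : ∀ g : C, f0 g = 1 ↔ g ∈ kerMod C M := by
    intro g
    have hmat : f0 g = 1 ↔ mat g = 1 := ⟨fun e => congrArg Subtype.val e, fun e => Subtype.ext e⟩
    rw [hmat]
    constructor
    · intro hg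
      refine mem_subgroupOf.2 ⟨g.2, fun y hy => ?_⟩
      have hgy := hconjM g y hy
      obtain ⟨h1, h2⟩ := hlin g _ _ y hy (hcuv y hy) hgy
      simp [hg] at h1 h2
      have hz1 := hcuv _ hgy
      rw [h1, h2] at hz1
      have hz3 := mul_mem (inv_mem (hcuv y hy)) hz1
      have hz4 : y⁻¹ * ((g : X) * y * (g : X)⁻¹) ∈ zC C := by simpa [mul_assoc] using hz3
      have hz5 := (zC_normal C).conj_mem _ hz4 y
      show ⁅(g : X), y⁆ ∈ zC C
      rw [commutatorElement_def]
      simpa [mul_assoc] using hz5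
    · intro hg
      have hg' := (mem_subgroupOf.1 hg).2
      have hfix : ∀ (w : X) (hw : w ∈ M) (a b : ZMod p), (u ^ a.val * v ^ b.val)⁻¹ * w ∈ zC C →
          cu _ (hconjM g w hw) = a ∧ cv _ (hconjM g w hw) = b := by
        intro w hw a b hab
        refine huniq _ _ _ _ ?_
        have h1 := (zC_normal C).conj_mem _ (hg' w hw) w⁻¹
        have e : w⁻¹ * ⁅(g : X), w⁆ * w⁻¹⁻¹ = w⁻¹ * ((g : X) * w * (g : X)⁻¹) := by
          simp only [commutatorElement_def]; group
        rw [e] at h1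
        simpa [mul_assoc] using mul_mem hab h1
      obtain ⟨a1, a2⟩ := hfix u hu 1 0 (by simp [ZMod.val_one])
      obtain ⟨b1, b2⟩ := hfix v hv 0 1 (by simp [ZMod.val_one])
      ext i j
      fin_cases i <;> fin_cases j
      · exact a1
      · exact b1
      · exact a2
      · exact b2
  haveI : Group.IsSolvable (C ⧸ kerMod C M) := inferInstance
  refine kbound_sl_two inferInstance (QuotientGroup.lift (kerMod C M) f0
    fun g hg => MonoidHom.mem_ker.2 ((hker g).2 hg)) ?_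
  refine (injective_iff_map_eq_one _).2 fun q hq => ?_
  obtain ⟨g, rfl⟩ := QuotientGroup.mk_surjective q
  exact (QuotientGroup.eq_one_iff g).2 ((hker g).1 hq)

/-- Bound on the action on a minimal piece of higher dimension. -/
theorem kbound_large {M : Subgroup X} (hM : M.Normal) (hZ : zC C ≤ M) (hMF : M ≤ fitC C)
    (hmin : ∀ N : Subgroup X, N.Normal → zC C ≤ N → N ≤ M → N = zC C ∨ N = M) {p a : ℕ}
    [hp : Fact p.Prime] (hel : ∀ x ∈ M, x ^ p ∈ zC C) (ha : 2 ≤ a)
    (hidx : (zC C).relIndex M = p ^ (2 * a)) (hpiece : PieceBound p a) [(kerMod C M).Normal] :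
    KBound (C ⧸ kerMod C M) (3 ^ (p ^ a - 1)) := by
  haveI := hM
  haveI := h.normal
  haveI := h.solvable
  haveI := zC_normal C
  letI iQ : CommGroup (M ⧸ (zC C).subgroupOf M) :=
    { (inferInstance : Group (M ⧸ (zC C).subgroupOf M)) with
      mul_comm := fun q r => by
        obtain ⟨q, rfl⟩ := QuotientGroup.mk_surjective q
        obtain ⟨r, rfl⟩ := QuotientGroup.mk_surjective r
        rw [← QuotientGroup.mk_mul, ← QuotientGroup.mk_mul, QuotientGroup.eq, mem_subgroupOf]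
        have hz := h.commutator_fitC (r : X)⁻¹ (inv_mem (hMF r.2)) (q : X)⁻¹ (inv_mem (hMF q.2))
        simpa [commutatorElement_def, mul_assoc] using hz }
  let act : X →* MulAut (M ⧸ (zC C).subgroupOf M) :=
    MonoidHom.mk' (fun g => QuotientGroup.congr ((zC C).subgroupOf M) ((zC C).subgroupOf M)
      (MulAut.conjNormal g) (by
        ext y
        refine (Subgroup.mem_map_equiv (f := MulAut.conjNormal g)).trans ?_
        rw [mem_subgroupOf, mem_subgroupOf, MulAut.conjNormal_symm_apply]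
        refine ⟨fun hy => ?_, fun hy => by simpa using (zC_normal C).conj_mem _ hy g⁻¹⟩
        have h5 := (zC_normal C).conj_mem _ hy g
        simpa [mul_assoc] using h5))
      fun g g' => MulEquiv.ext fun q => by
        obtain ⟨y, rfl⟩ := QuotientGroup.mk_surjective q
        show ((MulAut.conjNormal (g * g') y : M) : M ⧸ (zC C).subgroupOf M) =
          ((MulAut.conjNormal g (MulAut.conjNormal g' y) : M) : M ⧸ (zC C).subgroupOf M)
        rw [map_mul, MulAut.mul_apply]
  have hb : KBound act.range (3 ^ (p ^ a - 1)) := by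
    refine kbound_range_of_pieceBound h.solvable act (fun q => ?_) (by omega) hidx (fun U hU => ?_) hpiece
    · obtain ⟨q, rfl⟩ := QuotientGroup.mk_surjective q
      rw [← QuotientGroup.mk_pow, QuotientGroup.eq_one_iff, mem_subgroupOf]
      exact hel q q.2
    let T : Subgroup X := (U.comap (QuotientGroup.mk' ((zC C).subgroupOf M))).map M.subtype
    have hT : T.Normal := ⟨by
      rintro x ⟨y, hy, rfl⟩ g
      exact ⟨MulAut.conjNormal g y, hU g _ hy, MulAut.conjNormal_apply g y⟩⟩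
    have hzT : zC C ≤ T := fun z hz => ⟨⟨z, hZ hz⟩, by
      show QuotientGroup.mk' _ _ ∈ U
      rw [show QuotientGroup.mk' ((zC C).subgroupOf M) ⟨z, hZ hz⟩ = 1 from
        (QuotientGroup.eq_one_iff _).2 (mem_subgroupOf.2 hz)]
      exact one_mem U, rfl⟩
    rcases hmin T hT hzT (Subgroup.map_subtype_le _) with hT' | hT'
    · refine Or.inl (eq_bot_iff.2 fun q hq => ?_)
      obtain ⟨y, rfl⟩ := QuotientGroup.mk_surjective q
      have hyT : (y : X) ∈ T := ⟨y, hq, rfl⟩
      exact Subgroup.mem_bot.2 ((QuotientGroup.eq_one_iff y).2 (mem_subgroupOf.2 (hT' ▸ hyT)))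
    · refine Or.inr (eq_top_iff.2 fun q _ => ?_)
      obtain ⟨y, rfl⟩ := QuotientGroup.mk_surjective q
      obtain ⟨y', hy', e⟩ := (hT'.symm ▸ y.2 : (y : X) ∈ T)
      obtain rfl := Subtype.ext e
      exact hy'
  refine hb.of_ker_le (act.rangeRestrict.comp C.subtype) (QuotientGroup.mk' (kerMod C M))
    (QuotientGroup.mk'_surjective _) fun g hg => ?_
  rw [QuotientGroup.ker_mk']
  refine mem_subgroupOf.2 ⟨g.2, fun y hy => ?_⟩
  have h1 : act (g : X) = 1 := congrArg Subtype.val (MonoidHom.mem_ker.1 hg)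
  have h3 : ((MulAut.conjNormal (g : X) (⟨y, hy⟩ : M) : M) : M ⧸ (zC C).subgroupOf M) =
      ((⟨y, hy⟩ : M) : M ⧸ (zC C).subgroupOf M) := DFunLike.congr_fun h1 ((⟨y, hy⟩ : M) : M ⧸ (zC C).subgroupOf M)
  have h4 := (zC_normal C).conj_mem _ (mem_zC_of_mk_eq h3.symm) y
  rw [MulAut.conjNormal_apply] at h4
  show ⁅(g : X), y⁆ ∈ zC C
  rw [commutatorElement_def]
  simpa [mul_assoc] using h4

/-- The action on a normal subgroup modulo scalars. -/
theorem kbound_kerMod : ∀ (c : ℕ) (M : Subgroup X) (hM : M.Normal), zC C ≤ M → M ≤ fitC C →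
    Nat.card M = c → ∀ m, (zC C).relIndex M = m * m → PiecesUpTo m →
    [(kerMod C M).Normal] → KBound (C ⧸ kerMod C M) (3 ^ (m - 1)) := by
  intro c
  induction c using Nat.strong_induction_on with
  | _ c ih =>
  intro M hM hZ hMF hc m hm hpieces _
  haveI := hM
  haveI := h.normal
  haveI := zC_normal C
  by_cases hMZ : M = zC C
  · subst hMZ
    have htop : kerMod C (zC C) = ⊤ := eq_top_iff.2 fun g _ => mem_subgroupOf.2 ⟨g.2, fun y hy => by
      rw [commutatorElement_eq_one_iff_commute.2 (commute_zC hy g.2)]; exact one_mem _⟩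
    refine KBound.of_card ?_
    rw [← index_eq_card, htop, index_top]
    exact Nat.one_le_pow _ _ (by norm_num)
  have hMne : ¬ M ≤ zC C := fun hle => hMZ (le_antisymm hle hZ)
  by_cases hmin : ∀ N : Subgroup X, N.Normal → zC C ≤ N → N ≤ M → N = zC C ∨ N = M
  · -- a minimal piece
    have hm0 : 1 < m * m := by
      rw [← hm]
      have h0 := relIndex_ne_zero' (zC C) M
      have h1 : (zC C).relIndex M ≠ 1 := fun e => hMne (relIndex_eq_one.1 e)
      omega
    obtain ⟨p, hp, hpm⟩ := Nat.exists_prime_and_dvd (n := (zC C).relIndex M) (by omega)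
    haveI := Fact.mk hp
    let T : Subgroup X :=
      { carrier := {x | x ∈ M ∧ x ^ p ∈ zC C}
        one_mem' := ⟨one_mem M, by rw [one_pow]; exact one_mem _⟩
        mul_mem' := fun {x y} hx hy => ⟨mul_mem hx.1 hy.1, by
          haveI : ((zC C).subgroupOf M).Normal := normal_subgroupOf
          let π := QuotientGroup.mk' ((zC C).subgroupOf M)
          have hc : Commute (π ⟨x, hx.1⟩) (π ⟨y, hy.1⟩) := by
            show π _ * π _ = π _ * π _
            rw [← map_mul, ← map_mul, QuotientGroup.mk'_eq_mk']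
            refine ⟨⟨⁅y⁻¹, x⁻¹⁆, hZ (h.commutator_fitC _ (inv_mem (hMF hy.1)) _
              (inv_mem (hMF hx.1)))⟩, mem_subgroupOf.2 (h.commutator_fitC _ (inv_mem (hMF hy.1)) _
              (inv_mem (hMF hx.1))), Subtype.ext ?_⟩
            show x * y * ⁅y⁻¹, x⁻¹⁆ = y * x
            simp only [commutatorElement_def]; group
          have e : π (⟨x * y, mul_mem hx.1 hy.1⟩ ^ p) = 1 := by
            rw [map_pow, show (⟨x * y, mul_mem hx.1 hy.1⟩ : M) = ⟨x, hx.1⟩ * ⟨y, hy.1⟩ from rfl,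
              map_mul, hc.mul_pow, ← map_pow, ← map_pow]
            rw [show π (⟨x, hx.1⟩ ^ p) = 1 from (QuotientGroup.eq_one_iff _).2 (mem_subgroupOf.2 hx.2),
              show π (⟨y, hy.1⟩ ^ p) = 1 from (QuotientGroup.eq_one_iff _).2 (mem_subgroupOf.2 hy.2),
              one_mul]
          exact mem_subgroupOf.1 ((QuotientGroup.eq_one_iff _).1 e)⟩
        inv_mem' := fun {x} hx => ⟨inv_mem hx.1, by rw [inv_pow]; exact inv_mem hx.2⟩ }
    have hT : T.Normal := ⟨fun x hx g => ⟨hM.conj_mem x hx.1 g, by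
      rw [conj_pow]; exact (zC_normal C).conj_mem _ hx.2 g⟩⟩
    have hTM : T = M := by
      refine (hmin T hT (fun z hz => ⟨hZ hz, pow_mem hz p⟩) fun x hx => hx.1).resolve_left fun e => ?_
      obtain ⟨q, hq⟩ := exists_prime_orderOf_dvd_card' (G := M ⧸ (zC C).subgroupOf M) p hpm
      obtain ⟨x, rfl⟩ := QuotientGroup.mk_surjective q
      have hxp : (x ^ p : M) ∈ (zC C).subgroupOf M := (QuotientGroup.eq_one_iff _).1
        (by rw [QuotientGroup.mk_pow, ← hq, pow_orderOf_eq_one])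
      have hxT : (x : X) ∈ T := ⟨x.2, mem_subgroupOf.1 hxp⟩
      rw [e] at hxT
      rw [(QuotientGroup.eq_one_iff x).2 (mem_subgroupOf.2 hxT), orderOf_one] at hq
      exact hp.ne_one hq.symm
    have hel : ∀ x ∈ M, x ^ p ∈ zC C := fun x hx => (hTM.symm ▸ hx : x ∈ T).2
    have hQ : IsPGroup p (M ⧸ (zC C).subgroupOf M) := fun q => by
      obtain ⟨x, rfl⟩ := QuotientGroup.mk_surjective q
      exact ⟨1, by rw [pow_one, ← QuotientGroup.mk_pow, QuotientGroup.eq_one_iff, mem_subgroupOf]; exact hel x x.2⟩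
    obtain ⟨f, hf⟩ := IsPGroup.iff_card.1 hQ
    have hf' : (zC C).relIndex M = p ^ f := hf
    obtain ⟨a, -, rfl⟩ := (Nat.dvd_prime_pow hp).1 (hf' ▸ hm ▸ Dvd.intro m rfl : m ∣ p ^ f)
    have hfa : (zC C).relIndex M = p ^ (2 * a) := by rw [hm, ← pow_add, two_mul]
    rcases Nat.lt_or_ge a 2 with ha | ha
    · have ha1 : a = 1 := by
        rcases a with _ | a
        · simp at hm0
        · omega
      subst ha1
      rw [pow_one]
      exact h.kbound_two hM hZ hMF hel hfa
    · exact h.kbound_large hM hZ hMF hmin hel ha hfa (hpieces p a hp ha le_rfl)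
  push Not at hmin
  obtain ⟨N, hN, hZN, hNM, hNne, hNneM⟩ := hmin
  haveI := hN
  obtain ⟨hsup, hinf, hrel⟩ := h.complement hM hN hZN hNM hMF
  set N' := M ⊓ centralizer (N : Set X) with hN'
  haveI : N'.Normal := inferInstance
  have hZN' : zC C ≤ N' := hinf ▸ inf_le_right
  have hN'M : N' ≤ M := inf_le_left
  have hN'ne : N' ≠ M := fun e => hNne (by rw [← hinf, e, inf_eq_left.2 hNM])
  have hltN : Nat.card N < c := hc ▸
    (lt_of_le_of_ne (card_le_of_le hNM) fun e => hNneM (eq_of_le_of_card_ge hNM e.ge))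
  have hltN' : Nat.card N' < c := hc ▸
    (lt_of_le_of_ne (card_le_of_le hN'M) fun e => hN'ne (eq_of_le_of_card_ge hN'M e.ge))
  obtain ⟨m1, h11, hm1⟩ := h.exists_square hN hZN (hNM.trans hMF)
  obtain ⟨m2, h12, hm2⟩ := h.exists_square (inferInstance : N'.Normal) hZN' (hN'M.trans hMF)
  have hmm : m = m1 * m2 := by
    have e := relIndex_mul_relIndex _ _ _ hZN' hN'M
    rw [hrel, hm1, hm2, hm] at e
    exact Nat.mul_self_inj.1 (e.symm.trans (by ring))
  subst hmm
  haveI := kerMod_normal (C := C) (M := N)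
  haveI := kerMod_normal (C := C) (M := N')
  have b1 := ih _ hltN N hN hZN (hNM.trans hMF) rfl m1 hm1
    fun p a hp ha hpa => hpieces p a hp ha (hpa.trans (Nat.le_mul_of_pos_right m1 h12))
  have b2 := ih _ hltN' N' inferInstance hZN' (hN'M.trans hMF) rfl m2 hm2
    fun p a hp ha hpa => hpieces p a hp ha (hpa.trans (Nat.le_mul_of_pos_left m2 h11))
  let f : C →* (C ⧸ kerMod C N) × (C ⧸ kerMod C N') :=
    (QuotientGroup.mk' _).prod (QuotientGroup.mk' _)
  have hb : KBound ((C ⧸ kerMod C N) × (C ⧸ kerMod C N')) (3 ^ (m1 - 1) * 3 ^ (m2 - 1)) := by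
    refine KBound.of_hom (MonoidHom.snd (C ⧸ kerMod C N) (C ⧸ kerMod C N')) ?_ b2
    refine b1.of_injective ((MonoidHom.fst (C ⧸ kerMod C N) (C ⧸ kerMod C N')).comp
      (MonoidHom.snd (C ⧸ kerMod C N) (C ⧸ kerMod C N')).ker.subtype) ?_
    exact fun x y e => Subtype.ext (Prod.ext e
      ((MonoidHom.mem_ker.1 x.2).trans (MonoidHom.mem_ker.1 y.2).symm))
  refine (hb.of_ker_le f (QuotientGroup.mk' (kerMod C M)) (QuotientGroup.mk'_surjective _) ?_).mono ?_
  · intro g hg
    rw [QuotientGroup.ker_mk']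
    obtain ⟨e1, e2⟩ := Prod.mk_eq_one.1 (MonoidHom.mem_ker.1 hg : f g = 1)
    have k1' : g ∈ kerMod C N := (QuotientGroup.eq_one_iff g).1 e1
    have k2' : g ∈ kerMod C N' := (QuotientGroup.eq_one_iff g).1 e2
    have k1 := mem_subgroupOf.1 k1'
    have k2 := mem_subgroupOf.1 k2'
    refine mem_subgroupOf.2 ⟨g.2, fun y hy => ?_⟩
    obtain ⟨y1, hy1, y2, hy2, rfl⟩ := mem_sup_of_normal_right.1 (hsup.symm ▸ hy)
    rw [commutator_mul_right (C := C) (fitC_le C (hMF (hNM hy1))) (k2.2 y2 hy2)]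
    exact mul_mem (k1.2 y1 hy1) (k2.2 y2 hy2)
  · rw [← pow_add]
    exact Nat.pow_le_pow_right (by norm_num) (arith_pieces h11 h12)

/-- The structure of the quotient by the Fitting subgroup. -/
theorem structure_bound [FiniteDimensional k V] :
    ∃ m : ℕ, 1 ≤ m ∧ m ≤ Module.finrank k V ∧
      Nat.card (Cfsg.fittingSubgroup C) = Nat.card (zC C) * (m * m) ∧
      (∀ p : ℕ, p.Prime → p ∣ m → p ∣ Nat.card (zC C)) ∧
      (PiecesUpTo m → [(Cfsg.fittingSubgroup C).Normal] →
        KBound (C ⧸ Cfsg.fittingSubgroup C) (3 ^ (m - 1))) := by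
  haveI := h.normal
  haveI := fitC_normal C
  obtain ⟨m, hm1, hm⟩ := h.exists_square (inferInstance : (fitC C).Normal) h.zC_le_fitC le_rfl
  refine ⟨m, hm1, ?_, ?_, fun p hp hd => h.prime_dvd_zC inferInstance h.zC_le_fitC le_rfl hp
    (hm ▸ Dvd.dvd.mul_right hd m), fun hpieces _ => ?_⟩
  · exact Nat.mul_self_le_mul_self_iff.1 (hm ▸ h.relIndex_fitC_le)
  · rw [← card_map_of_injective (f := C.subtype) C.subtype_injective,
      ← hm, ← relIndex_bot_left, ← relIndex_bot_left]
    exact (relIndex_mul_relIndex _ _ _ bot_le h.zC_le_fitC).symm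
  · haveI := kerMod_normal (C := C) (M := fitC C)
    have hb := h.kbound_kerMod _ (fitC C) inferInstance h.zC_le_fitC le_rfl rfl m hm hpieces
    exact hb.of_surjective (QuotientGroup.quotientMulEquivOfEq h.kerMod_fitC).toMonoidHom
      (QuotientGroup.quotientMulEquivOfEq h.kerMod_fitC).surjective

end Setting

end CfsgLib.ClassBound
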