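import Cfsg.Agent.Lib.ClassBound.Decompose
import Mathlib

/-!
# Class bounds for solvable irreducible linear groups over finite fields
-/

set_option autoImplicit false
set_option linter.style.haveILetI false
set_option maxHeartbeats 800000

namespace CfsgLib.ClassBound

open Subgroup
open scoped commutatorElement

theorem exists_maximal_abelian_normal (X : Type*) [Group X] [Finite X] :
    ∃ A : Subgroup X, A.Normal ∧ (∀ a ∈ A, ∀ b ∈ A, Commute a b) ∧
      ∀ B : Subgroup X, B.Normal → (∀ a ∈ B, ∀ b ∈ B, Commute a b) →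
        (∀ a ∈ A, ∀ b ∈ B, Commute a b) → B ≤ A := by
  let S : Set (Subgroup X) := {A | A.Normal ∧ ∀ a ∈ A, ∀ b ∈ A, Commute a b}
  have hne : S.Nonempty := ⟨⊥, inferInstance, fun a ha b _ => by
    rw [mem_bot.1 ha]; exact Commute.one_left b⟩
  obtain ⟨A, hA, hmax⟩ := (Set.toFinite S).exists_maximal hne
  refine ⟨A, hA.1, hA.2, fun B hB hBc hAB => ?_⟩
  haveI := hA.1
  haveI := hB
  have hS : A ⊔ B ∈ S := ⟨inferInstance, fun a ha b hb => by
    obtain ⟨a1, ha1, a2, ha2, rfl⟩ := mem_sup_of_normal_right.1 ha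
    obtain ⟨b1, hb1, b2, hb2, rfl⟩ := mem_sup_of_normal_right.1 hb
    exact ((hA.2 a1 ha1 b1 hb1).mul_right (hAB a1 ha1 b2 hb2)).mul_left
      ((hAB b1 hb1 a2 ha2).symm.mul_right (hBc a2 ha2 b2 hb2))⟩
  exact le_sup_right.trans (hmax hS le_sup_left)

/-- Without blocks there is a normal subgroup acting over an extension field. -/
theorem blocks_or_field {X : Type} [Group X] [Finite X] {k : Type} [Field k] [Finite k] {V : Type}
    [AddCommGroup V] [Module k V] [FiniteDimensional k V] (ρ : X →* Module.End k V)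
    (hsol : Group.IsSolvable X) (hinj : Function.Injective ρ) (hirr : Irred ρ) :
    Nonempty (Blocks ρ) ∨ ∃ (C : Subgroup X) (e r m : ℕ), C.Normal ∧ 1 ≤ e ∧
      Module.finrank k V = e * r ∧ C.index ≤ e ∧ 1 ≤ m ∧ m ≤ r ∧
      Nat.card (Cfsg.fittingSubgroup C) = Nat.card (zC C) * (m * m) ∧
      Nat.card (zC C) ∣ Nat.card k ^ e - 1 ∧
      (∀ p : ℕ, p.Prime → p ∣ m → p ∣ Nat.card k ^ e - 1) ∧
      (PiecesUpTo m → [(Cfsg.fittingSubgroup C).Normal] →
        KBound (C ⧸ Cfsg.fittingSubgroup C) (3 ^ (m - 1))) ∧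
      ∀ g ∉ C, ∃ s : ℕ, s * s ≤ Nat.card k ^ e ∧
        Nat.card (zC C ⊓ centralizer ({g} : Set X) : Subgroup X) < s := by
  classical
  obtain ⟨A, hAn, hAc, hAmax⟩ := exists_maximal_abelian_normal X
  haveI := hAn
  rcases blocks_or_isField hirr A hAc with h | hfield
  · exact Or.inl h
  right
  haveI := hirr.1
  let R := algebraOf ρ A
  letI : Field R := hfield.toField
  haveI : Finite V := Module.finite_of_finite k
  haveI : Finite (Module.End k V) := Finite.of_injective _ DFunLike.coe_injective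
  haveI : Finite R := inferInstance
  haveI : Module.Finite k R := Module.Finite.of_finite
  haveI : Module.Finite R V := Module.Finite.of_finite
  set C := centralizer (A : Set X) with hC
  have hAC : A ≤ C := fun a ha => mem_centralizer_iff.2 fun b hb => (hAc b hb a ha).eq
  have hcommR : ∀ c ∈ C, ∀ x ∈ R, x * ρ c = ρ c * x := by
    intro c hc x hx
    have hle : R ≤ Subalgebra.centralizer k {ρ c} := Algebra.adjoin_le (by
      rintro _ ⟨a, ha, rfl⟩
      rw [SetLike.mem_coe, Subalgebra.mem_centralizer_iff]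
      intro z hz
      rw [Set.mem_singleton_iff.1 hz, ← map_mul, ← map_mul, mem_centralizer_iff.1 hc a ha])
    exact ((Subalgebra.mem_centralizer_iff k).1 (hle hx) _ rfl).symm
  let ρ' : C →* Module.End R V :=
    { toFun := fun c =>
        { toFun := ρ (c : X)
          map_add' := map_add _
          map_smul' := fun y v => by
            show ρ (c : X) ((y : Module.End k V) v) = (y : Module.End k V) (ρ (c : X) v)
            rw [← Module.End.mul_apply, ← hcommR _ c.2 _ y.2, Module.End.mul_apply] }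
      map_one' := LinearMap.ext fun v => by
        show ρ (1 : X) v = v
        rw [map_one, Module.End.one_apply]
      map_mul' := fun c d => LinearMap.ext fun v => by
        show ρ ((c : X) * d) v = ρ (c : X) (ρ (d : X) v)
        rw [map_mul, Module.End.mul_apply] }
  have hset : Setting C ρ' := by
    refine ⟨hsol, inferInstance, inferInstance, fun c d e => Subtype.ext (hinj (LinearMap.ext fun v =>
      LinearMap.congr_fun e v)), fun B hB hBC hBc b hb => ?_⟩
    have hbA : (b : X) ∈ A := hAmax B hB hBc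
      (fun a ha b' hb' => mem_centralizer_iff.1 (hBC hb') a ha) hb
    exact ⟨⟨ρ b, mem_algebraOf ρ hbA⟩, LinearMap.ext fun v => rfl⟩
  obtain ⟨m, hm1, hmr, hcard, hprime, hbound⟩ := hset.structure_bound
  have hzA : zC C ≤ A := hAmax (zC C) (zC_normal C)
    (fun a ha b hb => commute_zC hb ha.1) (fun a ha b hb => commute_zC hb (hAC ha))
  have hRx : Nat.card R = Nat.card k ^ Module.finrank k R := Module.natCard_eq_pow_finrank
  have hzdvd : Nat.card (zC C) ∣ Nat.card k ^ Module.finrank k R - 1 := by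
    rw [← hRx, ← Nat.card_units]
    let f : zC C →* R :=
      { toFun := fun z => ⟨ρ (z : X), mem_algebraOf ρ (hzA z.2)⟩
        map_one' := Subtype.ext (map_one ρ)
        map_mul' := fun z w => Subtype.ext (map_mul ρ (z : X) w) }
    refine Subgroup.card_dvd_of_injective f.toHomUnits fun z w e => Subtype.ext (hinj ?_)
    exact congrArg Subtype.val (congrArg Units.val e)
  -- the action on the field
  let φ : X → R →ₐ[k] R := fun g =>
    ((conjAlg ρ g).comp R.val).codRestrict R fun y => conjAlg_mem ρ g y.2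
  have hφφ : ∀ g h y, φ g (φ h y) = φ (g * h) y := fun g h y =>
    Subtype.ext (conjAlg_conjAlg ρ g h _)
  have hφ1 : ∀ y, φ 1 y = y := fun y => Subtype.ext (conjAlg_one ρ _)
  let ψ : X →* (R ≃ₐ[k] R) :=
    { toFun := fun g => AlgEquiv.ofAlgHom (φ g) (φ g⁻¹)
        (AlgHom.ext fun y => (hφφ _ _ y).trans (by rw [mul_inv_cancel, hφ1]; rfl))
        (AlgHom.ext fun y => (hφφ _ _ y).trans (by rw [inv_mul_cancel, hφ1]; rfl))
      map_one' := AlgEquiv.ext fun y => hφ1 y
      map_mul' := fun g h => AlgEquiv.ext fun y => (hφφ g h y).symm }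
  have hker : ∀ g, ψ g = 1 → g ∈ C := fun g hg => mem_centralizer_iff.2 fun a ha => by
    have h1 : ρ g * ρ a * ρ g⁻¹ = ρ a :=
      congrArg Subtype.val (DFunLike.congr_fun hg (⟨ρ a, mem_algebraOf ρ ha⟩ : R))
    rw [← map_mul, ← map_mul] at h1
    calc a * g = g * a * g⁻¹ * g := by rw [hinj h1]
      _ = g * a := by group
  have hidx : C.index ≤ Module.finrank k R := by
    haveI : C.Normal := inferInstance
    have h1 : C.index ≤ Nat.card ψ.range := by
      rw [← index_ker]
      refine Nat.le_of_dvd (Nat.pos_of_ne_zero index_ne_zero_of_finite) (index_dvd_of_le fun g hg => ?_)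
      exact hker g (MonoidHom.mem_ker.1 hg)
    refine h1.trans ((card_le_card_group ψ.range).trans ?_)
    rw [Nat.card_eq_fintype_card]
    exact AlgEquiv.card_le
  refine ⟨C, Module.finrank k R, Module.finrank R V, m, inferInstance, Module.finrank_pos,
    (Module.finrank_mul_finrank k R V).symm, hidx, hm1, hmr, hcard, hzdvd,
    fun p hp hd => (hprime p hp hd).trans hzdvd, hbound, fun g hg => ?_⟩
  · let K : Subfield R := (ψ g).toAlgHom.toRingHom.eqLocusField (RingHom.id R)
    refine ⟨Nat.card K, ?_, ?_⟩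
    · rw [← hRx, Module.natCard_eq_pow_finrank (K := K) (V := R), ← pow_two]
      refine Nat.pow_le_pow_right Nat.card_pos ?_
      by_contra! hlt
      have h1 : Module.finrank K R = 1 := by
        have := Module.finrank_pos (R := K) (M := R); omega
      refine hg (hker g (AlgEquiv.ext fun y => ?_))
      have hy : y ∈ K := by
        have e : Nat.card K = Nat.card R := by
          rw [Module.natCard_eq_pow_finrank (K := K) (V := R), h1, pow_one]
        have hs := (Subtype.val_injective (p := fun z => z ∈ K)).bijective_of_nat_card_le e.ge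
        obtain ⟨z, hz⟩ := hs.2 y
        exact hz ▸ z.2
      exact hy
    · let i : (zC C ⊓ centralizer ({g} : Set X) : Subgroup X) → K := fun z =>
        ⟨⟨ρ (z : X), mem_algebraOf ρ (hzA z.2.1)⟩, Subtype.ext (by
          show ρ g * ρ (z : X) * ρ g⁻¹ = ρ (z : X)
          rw [← map_mul, ← map_mul, mem_centralizer_singleton_iff.1 z.2.2 |>.symm]
          congr 1; group)⟩
      have hi : Function.Injective i := fun z w e => Subtype.ext (hinj
        (congrArg (fun t : K => ((t : R) : Module.End k V)) e))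
      have h0 : ∀ z, i z ≠ 0 := fun z hz => by
        have hz' : ρ (z : X) = 0 := congrArg (fun t : K => ((t : R) : Module.End k V)) hz
        have h1 : ρ (z : X) * ρ (z : X)⁻¹ = 1 := rep_mul_inv ρ _
        rw [hz', zero_mul] at h1
        exact zero_ne_one h1
      have h2 := Nat.card_le_card_of_injective (fun o => Option.elim o 0 i) (by
        rintro (_ | z) (_ | w) e
        · rfl
        · exact absurd e.symm (h0 w)
        · exact absurd e (h0 z)
        · exact congrArg some (hi e))
      rw [Finite.card_option] at h2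
      exact h2

theorem fitting_normal (C : Type*) [Group C] [Finite C] : (Cfsg.fittingSubgroup C).Normal := by
  haveI := CfsgLib.Fitting.fitting_characteristic (G := C)
  infer_instance

theorem kbound_of_fitting {C : Type*} [Group C] [Finite C] [(Cfsg.fittingSubgroup C).Normal] {b : ℕ}
    (h : KBound (C ⧸ Cfsg.fittingSubgroup C) b) :
    KBound C (Nat.card (Cfsg.fittingSubgroup C) * b) := by
  refine KBound.of_hom (QuotientGroup.mk' (Cfsg.fittingSubgroup C)) ?_ h
  rw [QuotientGroup.ker_mk']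
  exact kbound_card _

theorem sq_le_four_pow (j : ℕ) : (j + 1) * (j + 1) ≤ 4 ^ j := by
  induction j with
  | zero => norm_num
  | succ j ih => rw [pow_succ]; nlinarith

theorem sq_le_three_pow (j : ℕ) : (j + 3) * (j + 3) ≤ 3 ^ (j + 2) := by
  induction j with
  | zero => norm_num
  | succ j ih => rw [show j + 1 + 2 = (j + 2) + 1 by omega, pow_succ]; nlinarith

theorem exponent_bound {Q e x : ℕ} (hQ : 2 ≤ Q) (hx : x = Q ^ e) (he : 1 ≤ e) :
    (x = 4 ∧ e = 2) ∨ 3 * e * (x - 1) ≤ x * x := by
  have h2 : 2 ^ e ≤ x := hx ▸ Nat.pow_le_pow_left hQ e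
  obtain ⟨y, rfl⟩ : ∃ y, x = y + 1 := ⟨x - 1, by have := Nat.one_le_two_pow (n := e); omega⟩
  rw [Nat.add_sub_cancel]
  rcases Nat.lt_or_ge e 4 with h4 | h4
  · interval_cases e
    · right; nlinarith
    · by_cases hy : y = 3
      · exact Or.inl ⟨by omega, rfl⟩
      · right
        have : 4 ≤ y := by omega
        nlinarith
    · right
      have : 7 ≤ y := by omega
      nlinarith
  · right
    have h3 : ∀ d, 3 * (d + 4) ≤ 2 ^ (d + 4) := fun d => by
      induction d with
      | zero => norm_num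
      | succ d ih => rw [show d + 1 + 4 = d + 4 + 1 by omega, pow_succ]; omega
    obtain ⟨d, rfl⟩ : ∃ d, e = d + 4 := ⟨e - 4, by omega⟩
    exact Nat.mul_le_mul ((h3 d).trans h2) (Nat.le_succ y)

theorem field_arith {Q e r m : ℕ} (hQ : 2 ≤ Q) (he : 1 ≤ e) (hm : 1 ≤ m) (hmr : m ≤ r)
    (hp : ∀ p : ℕ, p.Prime → p ∣ m → p ∣ Q ^ e - 1) (hex : ¬(Q ^ (e * r) ≤ 4)) :
    3 * (e * ((Q ^ e - 1) * (m * m) * 3 ^ (m - 1))) ≤ Q ^ (2 * (e * r)) := by
  rw [show Q ^ (2 * (e * r)) = (Q ^ e * Q ^ e) ^ r by rw [← pow_add, ← pow_mul]; ring_nf]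
  rw [pow_mul] at hex
  have hb := exponent_bound hQ (rfl : Q ^ e = Q ^ e) he
  have hx2 : 2 ≤ Q ^ e := hQ.trans (Nat.le_self_pow (by omega) Q)
  generalize Q ^ e = x at *
  rw [show 3 * (e * ((x - 1) * (m * m) * 3 ^ (m - 1))) =
    (3 * e * (x - 1)) * (m * m * 3 ^ (m - 1)) by ring]
  have hpos : 0 < x * x := by nlinarith
  have hup : ∀ {a : ℕ}, a ≤ (x * x) ^ m → a ≤ (x * x) ^ r := fun ha =>
    ha.trans (Nat.pow_le_pow_right hpos hmr)
  rcases Nat.lt_or_ge m 2 with hm2 | hm2
  · obtain rfl : m = 1 := by omega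
    rw [Nat.sub_self, pow_zero, mul_one, mul_one, mul_one]
    rcases hb with ⟨rfl, rfl⟩ | hb
    · have hr : 2 ≤ r := by
        by_contra hr
        obtain rfl : r = 1 := by omega
        exact hex (by norm_num)
      exact le_trans (by norm_num) (Nat.pow_le_pow_right hpos hr)
    · exact hup (by rw [pow_one]; exact hb)
  obtain ⟨p, hpp, hpm⟩ := Nat.exists_prime_and_dvd (n := m) (by omega)
  have hdvd := hp p hpp hpm
  have hx3 : 3 ≤ x := by
    by_contra h
    have : x - 1 = 1 := by omega
    exact hpp.ne_one (Nat.dvd_one.1 (this ▸ hdvd))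
  obtain ⟨j, rfl⟩ : ∃ j, m = j + 1 := ⟨m - 1, by omega⟩
  rw [Nat.add_sub_cancel]
  refine hup ?_
  rw [pow_succ' (x * x)]
  by_cases hx : x = 3
  · subst hx
    rcases hb with ⟨h, _⟩ | hb
    · omega
    by_cases hj : j = 1
    · subst hj
      norm_num
      have : e = 1 := by omega
      omega
    obtain ⟨i, rfl⟩ : ∃ i, j = i + 2 := ⟨j - 2, by omega⟩
    refine Nat.mul_le_mul hb ?_
    rw [show (3 * 3) ^ (i + 2) = 3 ^ (i + 2) * 3 ^ (i + 2) from mul_pow 3 3 _]
    exact Nat.mul_le_mul_right _ (sq_le_three_pow i)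
  have h12 : (j + 1) * (j + 1) * 3 ^ j ≤ 12 ^ j := by
    rw [show (12 : ℕ) ^ j = 4 ^ j * 3 ^ j by rw [show (12 : ℕ) = 4 * 3 by norm_num, mul_pow]]
    exact Nat.mul_le_mul_right _ (sq_le_four_pow j)
  have hx4 : 4 ≤ x := by omega
  have h16 : 12 ^ j ≤ (x * x) ^ j := Nat.pow_le_pow_left (by nlinarith) j
  rcases hb with ⟨rfl, rfl⟩ | hb
  · obtain ⟨i, rfl⟩ : ∃ i, j = i + 1 := ⟨j - 1, by omega⟩
    refine (Nat.mul_le_mul_left _ h12).trans ?_
    rw [pow_succ' 12, pow_succ' (4 * 4), ← mul_assoc, ← mul_assoc]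
    exact Nat.mul_le_mul (by norm_num) (Nat.pow_le_pow_left (by norm_num) i)
  · exact Nat.mul_le_mul hb (h12.trans h16)

theorem piece_arith {p a : ℕ} (hp : 2 ≤ p) (ha : 2 ≤ a) (h4 : p ^ a ≠ 4) :
    2 * a < p ^ a ∧ p ^ (2 * (2 * a)) / 3 ≤ 3 ^ (p ^ a - 1) := by
  have key : ∀ y, 8 ≤ y → y ^ 4 ≤ 3 ^ y := by
    intro y hy
    induction y, hy using Nat.le_induction with
    | base => norm_num
    | succ y hy ih =>
      rw [pow_succ 3 y]
      have h1 : (y + 1) ^ 4 ≤ 3 * y ^ 4 := by
        have e : (y + 1) ^ 4 = y ^ 4 + (4 * y ^ 3 + 6 * y ^ 2 + 4 * y + 1) := by ring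
        have e2 : 8 * y ^ 3 ≤ y ^ 4 := by rw [pow_succ' y 3]; exact Nat.mul_le_mul_right _ hy
        nlinarith [Nat.mul_le_mul hy hy, Nat.zero_le (y ^ 3)]
      omega
  have h8 : 8 ≤ p ^ a ∧ 2 * a < p ^ a := by
    rcases Nat.lt_or_ge a 3 with ha3 | ha3
    · obtain rfl : a = 2 := by omega
      have h3 : 3 ≤ p := by
        by_contra h
        obtain rfl : p = 2 := by omega
        exact h4 rfl
      have : 9 ≤ p ^ 2 := Nat.pow_le_pow_left h3 2
      omega
    · have h2 : ∀ d, 8 ≤ 2 ^ (d + 3) ∧ 2 * (d + 3) < 2 ^ (d + 3) := fun d => by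
        induction d with
        | zero => norm_num
        | succ d ih => rw [show d + 1 + 3 = d + 3 + 1 by omega, pow_succ]; omega
      obtain ⟨d, rfl⟩ : ∃ d, a = d + 3 := ⟨a - 3, by omega⟩
      have := Nat.pow_le_pow_left hp (d + 3)
      have := h2 d
      omega
  refine ⟨h8.2, Nat.div_le_of_le_mul ?_⟩
  rw [← pow_succ', Nat.sub_add_cancel (by omega),
    show p ^ (2 * (2 * a)) = (p ^ a) ^ 4 by rw [← pow_mul]; ring_nf]
  exact key _ h8.1

/-- A linear group on at most four vectors. -/
theorem kbound_of_card_le_four {X : Type} [Group X] [Finite X] {k : Type} [Field k] {V : Type}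
    [AddCommGroup V] [Module k V] [Finite V] (ρ : X →* Module.End k V) (hinj : Function.Injective ρ)
    (h : Nat.card V ≤ 4) : KBound X 3 ∧ (Nat.card V ≤ 2 → KBound X 1) := by
  classical
  haveI : Fintype V := Fintype.ofFinite V
  let Ω := {v : V // v ≠ 0}
  letI : MulAction X Ω :=
    { smul := fun g v => ⟨ρ g v.1, fun e => v.2 (by rw [← rep_inv_apply ρ g v.1, e, map_zero])⟩
      one_smul := fun v => Subtype.ext (by
        show ρ 1 v.1 = v.1
        rw [map_one, Module.End.one_apply])
      mul_smul := fun g g' v => Subtype.ext (by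
        show ρ (g * g') v.1 = ρ g (ρ g' v.1)
        rw [map_mul, Module.End.mul_apply]) }
  haveI : FaithfulSMul X Ω := ⟨fun {g g'} e => hinj (LinearMap.ext fun v => by
    by_cases hv : v = 0
    · rw [hv, map_zero, map_zero]
    · exact congrArg Subtype.val (e ⟨v, hv⟩))⟩
  have hΩ : Fintype.card Ω + 1 = Nat.card V := by
    rw [Nat.card_eq_fintype_card, Fintype.card_subtype_compl, Fintype.card_subtype_eq,
      Nat.sub_add_cancel Fintype.card_pos]
  refine ⟨kbound_of_faithful_le_three (Ω := Ω) (by omega), fun h2 => ?_⟩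
  haveI : Subsingleton Ω := Fintype.card_le_one_iff_subsingleton.1 (by omega)
  haveI : Subsingleton X := ⟨fun g g' => FaithfulSMul.eq_of_smul_eq_smul (α := Ω) fun v =>
    Subsingleton.elim _ _⟩
  exact kbound_one_of_subsingleton X

/-- The piece of order sixteen. -/
theorem pieceBound_two_two : @PieceBound 2 2 ⟨Nat.prime_two⟩ := by
  haveI := Fact.mk Nat.prime_two
  intro X _ _ W _ _ _ σ hsol hinj hirr hn
  classical
  haveI : Finite W := Module.finite_of_finite (ZMod 2)
  haveI := hsol
  rcases blocks_or_field σ hsol hinj hirr with ⟨⟨B⟩⟩ | ⟨C, e, r, m, hCn, he, hn', hidx, hm, hmr, hF, hzd, hp, hk, hfix⟩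
  · have hi : Fin B.t := ⟨0, by have := B.two_le; omega⟩
    have hfr := B.finrank_eq hirr hi
    rw [hn] at hfr
    have hd := B.finrank_pos hi
    have hcase : B.t = 4 ∧ Module.finrank (ZMod 2) (B.W hi) = 1 ∨
        B.t = 2 ∧ Module.finrank (ZMod 2) (B.W hi) = 2 := by
      have := B.two_le
      have h4 : B.t ≤ 4 := by nlinarith
      have h5 : B.t = 2 ∨ B.t = 3 ∨ B.t = 4 := by omega
      rcases h5 with h | h | h <;> rw [h] at hfr ⊢ <;> omega
    have hcard : ∀ i, Nat.card (B.W i) = 2 ^ Module.finrank (ZMod 2) (B.W hi) := fun i => by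
      rw [Module.natCard_eq_pow_finrank (K := ZMod 2), Nat.card_zmod, B.finrank_W_eq hirr i hi]
    rcases hcase with ⟨ht, hd1⟩ | ⟨ht, hd2⟩
    · refine (B.kbound hsol hinj (b := 1) fun i => ?_).mono (by rw [ht]; norm_num)
      exact (kbound_of_card_le_four _ (quotRep_injective (B.res i)) (by rw [hcard, hd1]; norm_num)).2
        (by rw [hcard, hd1]; norm_num)
    · refine (B.kbound hsol hinj (b := 3) fun i => ?_).mono (by rw [ht]; norm_num)
      exact (kbound_of_card_le_four _ (quotRep_injective (B.res i)) (by rw [hcard, hd2]; norm_num)).1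
  rw [Nat.card_zmod] at hzd hp hfix
  rw [hn] at hn'
  have hm1 : m = 1 := by
    by_contra hne
    obtain ⟨p, hpp, hpm⟩ := Nat.exists_prime_and_dvd (n := m) hne
    have h1 := hp p hpp hpm
    have he4 : e ≤ 4 := Nat.le_of_dvd (by norm_num) (Dvd.intro r hn'.symm)
    have hr4 : r ≤ 4 := Nat.le_of_dvd (by norm_num) (Dvd.intro_left e hn'.symm)
    have hple := (Nat.le_of_dvd (by omega) hpm).trans hmr
    have hp2 : p ≠ 2 := fun h => by
      subst h
      obtain ⟨d, rfl⟩ : ∃ d, e = d + 1 := ⟨e - 1, by omega⟩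
      have := Nat.one_le_two_pow (n := d)
      rw [pow_succ] at h1
      omega
    have := hpp.two_le
    obtain rfl : e = 1 := by
      have : 3 ≤ r := by omega
      interval_cases r <;> omega
    exact hpp.ne_one (Nat.dvd_one.1 (by simpa using h1))
  subst hm1
  haveI := fitting_normal C
  have hq := hk fun p a hp ha hpa => by
    have := (Nat.lt_pow_self hp.one_lt (n := a))
    omega
  have hb := kbound_of_fitting hq
  rw [hF] at hb
  have hzle := Nat.le_of_dvd (Nat.sub_pos_of_lt (Nat.one_lt_two_pow (by omega))) hzd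
  have he4 : e ≤ 4 := Nat.le_of_dvd (by norm_num) (Dvd.intro r hn'.symm)
  rcases Nat.lt_or_ge e 3 with he3 | he3
  · refine (KBound.of_hom (QuotientGroup.mk' C) (a := 2 ^ e - 1) (b := e) ?_
      (KBound.of_card (by rw [← index_eq_card]; exact hidx))).mono ?_
    · rw [QuotientGroup.ker_mk']
      exact hb.mono (by simpa using hzle)
    · interval_cases e <;> norm_num
  obtain rfl : e = 4 := by interval_cases e <;> omega
  obtain rfl : r = 1 := by omega
  -- the scalars are the whole of `C`
  have htop : Cfsg.fittingSubgroup C = ⊤ := eq_top_iff.2 fun g _ => by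
    haveI : Subsingleton (ConjClasses (C ⧸ Cfsg.fittingSubgroup C)) :=
      Finite.card_le_one_iff_subsingleton.1 (by simpa using hq.card_le)
    have hg : IsConj (1 : C ⧸ Cfsg.fittingSubgroup C) g :=
      ConjClasses.mk_eq_mk_iff_isConj.1 (Subsingleton.elim _ _)
    exact (QuotientGroup.eq_one_iff g).1 (isConj_one_right.1 hg)
  have hcC : Nat.card C = Nat.card (zC C) := by
    rw [htop, card_top, mul_one, mul_one] at hF
    exact hF
  have hzC : zC C = C := eq_of_le_of_card_ge (zC_le C) hcC.le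
  rw [hzC] at hzd hfix
  have hC15 := Nat.le_of_dvd (by norm_num) hzd
  haveI := Fintype.ofFinite X
  refine (KBound.of_centralizer (Finset.univ.filter (· ∈ C)) (by simp [one_mem]) (c := 12)
    (by norm_num) fun g hg => ?_).mono ?_
  · obtain ⟨s, hs1, hs2⟩ := hfix g (by simpa using hg)
    have hs4 : s ≤ 4 := by nlinarith
    have h1 : Nat.card (centralizer ({g} : Set X)) =
        Nat.card (C.subgroupOf (centralizer ({g} : Set X))) * C.relIndex (centralizer ({g} : Set X)) :=
      (card_mul_index _).symm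
    have h2 : C.relIndex (centralizer ({g} : Set X)) ∣ C.index := relIndex_dvd_index_of_normal C _
    have h3 := Nat.le_of_dvd (Nat.pos_of_ne_zero index_ne_zero_of_finite) h2
    have h4 : Nat.card (C.subgroupOf (centralizer ({g} : Set X))) ≤ 3 := by
      rw [← inf_subgroupOf_right, Nat.card_congr (subgroupOfEquivOfLe inf_le_right).toEquiv]
      omega
    rw [h1]
    exact Nat.mul_le_mul h4 (h3.trans hidx)
  · rw [show (Finset.univ.filter (· ∈ C)).card = Nat.card C by
      rw [Nat.card_eq_fintype_card, Fintype.card_subtype]]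
    omega

/-- The class bound for irreducible solvable linear groups of dimension `n`. -/
def LinBound (n : ℕ) : Prop :=
  ∀ (X : Type) [Group X] [Finite X] (k : Type) [Field k] [Finite k] (V : Type) [AddCommGroup V]
    [Module k V] [FiniteDimensional k V] (ρ : X →* Module.End k V),
    Group.IsSolvable X → Function.Injective ρ → Irred ρ → Module.finrank k V = n →
      KBound X (Nat.card k ^ (2 * n) / 3)

theorem pieceBound_of_linBound {p a : ℕ} [hp : Fact p.Prime] (ha : 2 ≤ a)
    (h : p ^ a ≠ 4 → LinBound (2 * a)) : PieceBound p a := by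
  by_cases h4 : p ^ a = 4
  · obtain rfl : p = 2 := (Nat.prime_dvd_prime_iff_eq hp.out Nat.prime_two).1
      (hp.out.dvd_of_dvd_pow (n := 2) (by rw [show (2 : ℕ) ^ 2 = p ^ a by rw [h4]; rfl]; exact dvd_pow_self p (by omega) : p ∣ 2 ^ 2))
    obtain rfl : a = 2 := Nat.pow_right_injective le_rfl (h4.trans (by norm_num : (4 : ℕ) = 2 ^ 2))
    exact pieceBound_two_two
  intro X _ _ W _ _ _ σ hsol hinj hirr hn
  refine (h h4 X (ZMod p) W σ hsol hinj hirr hn).mono ?_
  rw [Nat.card_zmod]
  exact (piece_arith hp.out.two_le ha h4).2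

/-- Solvable irreducible linear groups over finite fields. -/
theorem linBound : ∀ n, LinBound n := by
  intro n
  induction n using Nat.strong_induction_on with
  | _ n ih =>
  intro X _ _ k _ _ V _ _ _ ρ hsol hinj hirr hn
  haveI := hirr.1
  haveI := hsol
  have hQ : 2 ≤ Nat.card k := Finite.one_lt_card
  have hn1 : 1 ≤ n := hn ▸ Module.finrank_pos
  haveI : Finite V := Module.finite_of_finite k
  refine (?_ : ∃ b, 3 * b ≤ Nat.card k ^ (2 * n) ∧ KBound X b).elim
    fun b hb => hb.2.mono ((Nat.le_div_iff_mul_le (by norm_num)).2 (by omega))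
  by_cases hsmall : Nat.card k ^ n ≤ 4
  · have hV : Nat.card V ≤ 4 := by rw [Module.natCard_eq_pow_finrank (K := k), hn]; exact hsmall
    have h1 := kbound_of_card_le_four ρ hinj hV
    have h2 : Nat.card V ^ 2 = Nat.card k ^ (2 * n) := by
      rw [Module.natCard_eq_pow_finrank (K := k), hn, ← pow_mul, mul_comm]
    have hV1 : 1 < Nat.card V := Finite.one_lt_card
    rcases Nat.lt_or_ge (Nat.card V) 3 with hV2 | hV2
    · exact ⟨1, by rw [← h2]; nlinarith, h1.2 (by omega)⟩
    · exact ⟨3, by rw [← h2]; nlinarith, h1.1⟩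
  rcases blocks_or_field ρ hsol hinj hirr with ⟨⟨B⟩⟩ | ⟨C, e, r, m, hCn, he, hn', hidx, hm, hmr, hF, hzd, hp, hk, -⟩
  · have hi : Fin B.t := ⟨0, by have := B.two_le; omega⟩
    have hd := B.finrank_pos hi
    have hfr := B.finrank_eq hirr hi
    have hlt : Module.finrank k (B.W hi) < n := by
      rw [← hn, hfr]
      exact lt_mul_left hd B.two_le
    refine ⟨_, ?_, B.kbound hsol hinj (b := Nat.card k ^ (2 * Module.finrank k (B.W hi)) / 3) fun i => ?_⟩
    · have ht : B.t - 1 + 1 = B.t := by have := B.two_le; omega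
      generalize hc : Nat.card k ^ (2 * Module.finrank k (B.W hi)) = c
      calc 3 * ((c / 3) ^ B.t * 3 ^ (B.t - 1)) = (3 * (c / 3)) ^ B.t := by
            rw [mul_pow, ← mul_assoc, mul_comm 3, mul_assoc, ← pow_succ', ht, mul_comm]
        _ ≤ c ^ B.t := Nat.pow_le_pow_left (Nat.mul_div_le c 3) _
        _ = Nat.card k ^ (2 * n) := by rw [← hn, hfr, ← hc, ← pow_mul]; ring_nf
    · exact ih _ hlt _ k (B.W i) (quotRep (B.res i)) inferInstance
        (quotRep_injective _) (B.irred_res hirr i).quotRep (B.finrank_W_eq hirr i hi)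
  rw [hn] at hn'
  subst hn'
  refine ⟨_, field_arith hQ he hm hmr hp hsmall, ?_⟩
  have hrn : m ≤ e * r := hmr.trans (Nat.le_mul_of_pos_left r he)
  haveI := fitting_normal C
  have hb := kbound_of_fitting <| hk fun p a hp ha hpa => @pieceBound_of_linBound p a ⟨hp⟩ ha fun h4 =>
    ih _ (by have := (piece_arith hp.two_le ha h4).1; omega)
  rw [hF] at hb
  have hzle := Nat.le_of_dvd (Nat.sub_pos_of_lt (Nat.one_lt_pow (by omega) (by omega))) hzd
  refine (KBound.of_hom (QuotientGroup.mk' C) ?_
    (KBound.of_card (by rw [← index_eq_card]; exact hidx))).mono (le_of_eq (mul_comm _ e))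
  rw [QuotientGroup.ker_mk']
  exact hb.mono (Nat.mul_le_mul_right _ (Nat.mul_le_mul_right _ hzle))

end CfsgLib.ClassBound
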