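import Cfsg.Agent.Lib.ClassBound.Basic
import Mathlib

/-!
# Class numbers in a few small groups
-/

set_option autoImplicit false
set_option linter.style.haveILetI false

namespace CfsgLib.ClassBound

open Subgroup Matrix

theorem card_centralizer_eq {X : Type*} [Group X] [Fintype X] [DecidableEq X] (x : X) :
    Nat.card (centralizer ({x} : Set X)) =
      (Finset.univ.filter fun y : X => y * x = x * y).card := by
  rw [← Nat.subtype_card (Finset.univ.filter fun y : X => y * x = x * y)
    (p := fun y => y * x = x * y) (by simp)]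
  exact Nat.card_congr (Equiv.subtypeEquivRight fun y => mem_centralizer_singleton_iff)

set_option maxRecDepth 4000 in
theorem kbound_perm_three : KBound (Equiv.Perm (Fin 3)) 3 :=
  KBound.of_centralizer ({1} : Finset (Equiv.Perm (Fin 3))) (by decide) (c := 3) (by norm_num)
    fun x hx => by
      rw [card_centralizer_eq]
      revert x
      decide

/-- A group acting faithfully on at most three points has at most three classes in each
subgroup. -/
theorem kbound_of_faithful_le_three {G : Type*} [Group G] [Finite G] {Ω : Type*} [Fintype Ω]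
    [MulAction G Ω] [FaithfulSMul G Ω] (h : Fintype.card Ω ≤ 3) : KBound G 3 := by
  classical
  rcases Nat.lt_or_ge (Fintype.card Ω) 3 with h3 | h3
  · refine KBound.of_card ?_
    refine (Nat.card_le_card_of_injective (MulAction.toPermHom G Ω) MulAction.toPerm_injective).trans ?_
    rw [Nat.card_perm, Nat.card_eq_fintype_card]
    exact (Nat.factorial_le (Nat.lt_succ_iff.1 h3)).trans (by decide)
  · have e : Ω ≃ Fin 3 := Fintype.equivFinOfCardEq (le_antisymm h h3)
    exact kbound_perm_three.of_injective (e.permCongrHom.toMonoidHom.comp (MulAction.toPermHom G Ω))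
      (e.permCongrHom.injective.comp MulAction.toPerm_injective)

section SL2

set_option maxRecDepth 8000 in
theorem kbound_sl_two_two : KBound (SpecialLinearGroup (Fin 2) (ZMod 2)) 3 :=
  KBound.of_centralizer ({1} : Finset (SpecialLinearGroup (Fin 2) (ZMod 2))) (by decide) (c := 3)
    (by norm_num) fun x hx => by
      rw [card_centralizer_eq]
      revert x
      decide

set_option maxRecDepth 20000 in
set_option maxHeartbeats 1000000 in
theorem kbound_sl_two_three : KBound (SpecialLinearGroup (Fin 2) (ZMod 3)) 9 :=
  (KBound.of_centralizer ({1, -1} : Finset (SpecialLinearGroup (Fin 2) (ZMod 3))) (by decide) (c := 6)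
    (by norm_num) fun x hx => by
      rw [card_centralizer_eq]
      revert x
      decide).mono (by decide)

theorem card_sl_two_le (p : ℕ) [Fact p.Prime] :
    Nat.card (SpecialLinearGroup (Fin 2) (ZMod p)) ≤ p ^ 3 := by
  classical
  let f : SpecialLinearGroup (Fin 2) (ZMod p) → ZMod p × ZMod p × ZMod p := fun g =>
    (g.1 0 0, g.1 1 0, if g.1 0 0 = 0 then g.1 1 1 else g.1 0 1)
  have hf : Function.Injective f := by
    intro g g' e
    simp only [f, Prod.mk.injEq] at e
    obtain ⟨ha, hc, he⟩ := e
    have hdet : ∀ k : SpecialLinearGroup (Fin 2) (ZMod p), k.1 0 0 * k.1 1 1 - k.1 0 1 * k.1 1 0 = 1 :=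
      fun k => by rw [← Matrix.det_fin_two]; exact k.2
    have h1 := hdet g
    have h2 := hdet g'
    by_cases h0 : g.1 0 0 = 0
    · have h0' : g'.1 0 0 = 0 := ha ▸ h0
      rw [if_pos h0, if_pos h0'] at he
      rw [h0] at h1
      rw [h0'] at h2
      rw [← hc] at h2
      have hne : g.1 1 0 ≠ 0 := fun e => by rw [e] at h1; simp at h1
      have hb : g.1 0 1 = g'.1 0 1 := mul_right_cancel₀ hne (by linear_combination h2 - h1)
      ext i j
      fin_cases i <;> fin_cases j <;> assumption
    · rw [if_neg h0, if_neg (ha ▸ h0)] at he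
      rw [← ha, ← he, ← hc] at h2
      have hd : g.1 1 1 = g'.1 1 1 := mul_left_cancel₀ h0 (by linear_combination h1 - h2)
      ext i j
      fin_cases i <;> fin_cases j <;> assumption
  refine (Nat.card_le_card_of_injective f hf).trans (le_of_eq ?_)
  rw [Nat.card_prod, Nat.card_prod, Nat.card_zmod]
  ring

theorem pow_three_le {p : ℕ} (hp : 7 ≤ p) : p ^ 3 ≤ 3 ^ (p - 1) := by
  induction p, hp using Nat.le_induction with
  | base => norm_num
  | succ p hp ih =>
    obtain ⟨q, rfl⟩ : ∃ q, p = q + 1 := ⟨p - 1, by omega⟩
    simp only [Nat.add_sub_cancel] at ih ⊢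
    rw [pow_succ 3 q]
    have h1 : (q + 1 + 1) ^ 3 ≤ (q + 1) ^ 3 * 3 := by
      have h5 : 6 ≤ q := by omega
      have h6 : 6 * (q * q) ≤ q * (q * q) := Nat.mul_le_mul_right _ h5
      have h7 : 6 * q ≤ q * q := Nat.mul_le_mul_right _ h5
      ring_nf at h6 h7 ⊢
      omega
    omega

theorem not_solvable_sl_two_five :
    ¬ Group.IsSolvable (SpecialLinearGroup (Fin 2) (ZMod 5)) := by
  intro h
  haveI : Fact (Nat.Prime 5) := ⟨by norm_num⟩
  have h1 : commutator (SpecialLinearGroup (Fin 2) (ZMod 5)) = ⊤ :=
    Matrix.SL2.commutator_eq_top (a := (2 : ZMod 5)) (by decide +kernel +revert) (by decide +kernel +revert)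
  haveI : Nontrivial (SpecialLinearGroup (Fin 2) (ZMod 5)) :=
    ⟨⟨1, -1, by decide⟩⟩
  exact (Group.IsSolvable.commutator_lt_top_of_nontrivial _).ne h1

/-- A solvable group inside `SL(2, p)` has subgroups with at most `3 ^ (p - 1)` classes. -/
theorem kbound_sl_two {p : ℕ} [hp : Fact p.Prime] {C : Type*} [Group C] [Finite C]
    (hC : Group.IsSolvable C) (f : C →* SpecialLinearGroup (Fin 2) (ZMod p))
    (hf : Function.Injective f) : KBound C (3 ^ (p - 1)) := by
  rcases Nat.lt_or_ge p 7 with hp7 | hp7
  · have h2 := hp.out.two_le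
    interval_cases p
    · exact kbound_sl_two_two.of_injective f hf
    · exact kbound_sl_two_three.of_injective f hf
    · exact absurd hp.out (by norm_num)
    · refine KBound.of_card ?_
      have hne : f.range ≠ ⊤ := fun e => not_solvable_sl_two_five <| by
        haveI := hC
        exact Group.isSolvable_of_surjective (f := f) (MonoidHom.range_eq_top.1 e)
      have h1 : Nat.card f.range * f.range.index = Nat.card (SpecialLinearGroup (Fin 2) (ZMod 5)) :=
        card_mul_index _
      have h3 : 2 ≤ f.range.index := one_lt_index_of_ne_top hne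
      have h4 : Nat.card f.range * 2 ≤ Nat.card f.range * f.range.index := Nat.mul_le_mul_left _ h3
      have h5 := card_sl_two_le 5
      have h6 : Nat.card C = Nat.card f.range := Nat.card_congr (MonoidHom.ofInjective hf).toEquiv
      rw [show (5 : ℕ) ^ 3 = 125 from rfl] at h5
      rw [show (3 : ℕ) ^ (5 - 1) = 81 from rfl]
      omega
    · exact absurd hp.out (by norm_num)
  · exact KBound.of_card ((Nat.card_le_card_of_injective f hf).trans
      ((card_sl_two_le p).trans (pow_three_le hp7)))

end SL2

end CfsgLib.ClassBound
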