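import Cfsg.Agent.Lib.ClassBound.Blocks
import Cfsg.Agent.Lib.ClassBound.Small
import Cfsg.Agent.Lib.Solvable.Fitting
import Mathlib

/-!
# Solvable linear groups whose abelian normal subgroups are scalar

The Fitting subgroup modulo scalars carries a nondegenerate commutator pairing.
-/

set_option autoImplicit false
set_option linter.style.haveILetI false
set_option maxHeartbeats 400000

namespace CfsgLib.ClassBound

open Subgroup
open scoped commutatorElement

/-- The bound needed for one irreducible factor of the Fitting quotient. -/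
def PieceBound (p a : ℕ) [Fact p.Prime] : Prop :=
  ∀ (X : Type) [Group X] [Finite X] (W : Type) [AddCommGroup W] [Module (ZMod p) W]
    [FiniteDimensional (ZMod p) W] (σ : X →* Module.End (ZMod p) W),
    Group.IsSolvable X → Function.Injective σ → Irred σ → Module.finrank (ZMod p) W = 2 * a →
      KBound X (3 ^ (p ^ a - 1))

/-- All pieces up to `m`. -/
def PiecesUpTo (m : ℕ) : Prop :=
  ∀ (p a : ℕ) (hp : p.Prime), 2 ≤ a → p ^ a ≤ m → @PieceBound p a ⟨hp⟩

variable {k : Type*} [Field k] {V : Type*} [AddCommGroup V] [Module k V] {X : Type} [Group X]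

/-- A normal subgroup `C` with a faithful representation in which all abelian normal subgroups of
`X` inside `C` act as scalars. -/
structure Setting (C : Subgroup X) (ρ : C →* Module.End k V) : Prop where
  solvable : Group.IsSolvable X
  normal : C.Normal
  nontrivial : Nontrivial V
  inj : Function.Injective ρ
  scalar : ∀ A : Subgroup X, A.Normal → A ≤ C → (∀ a ∈ A, ∀ b ∈ A, Commute a b) →
    ∀ a : C, (a : X) ∈ A → ∃ c : k, ρ a = c • 1

/-- The centre of `C` inside `X`. -/
def zC (C : Subgroup X) : Subgroup X := C ⊓ centralizer (C : Set X)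

/-- The Fitting subgroup of `C` inside `X`. -/
noncomputable def fitC (C : Subgroup X) : Subgroup X :=
  (Cfsg.fittingSubgroup C).map C.subtype

theorem commute_zC {C : Subgroup X} {z x : X} (hz : z ∈ zC C) (hx : x ∈ C) : Commute x z :=
  mem_centralizer_iff.1 hz.2 x hx

theorem zC_le (C : Subgroup X) : zC C ≤ C := inf_le_left

theorem fitC_le (C : Subgroup X) : fitC C ≤ C := map_subtype_le _

theorem relIndex_ne_zero' [Finite X] (H K : Subgroup X) : H.relIndex K ≠ 0 :=
  index_ne_zero_of_finite

theorem zC_normal (C : Subgroup X) [hC : C.Normal] : (zC C).Normal := by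
  refine ⟨fun z hz g => ⟨hC.conj_mem z hz.1 g, mem_centralizer_iff.2 fun x hx => ?_⟩⟩
  have hx' : g⁻¹ * x * g ∈ C := by simpa using hC.conj_mem x hx g⁻¹
  have e := (commute_zC hz hx').eq
  calc x * (g * z * g⁻¹) = g * ((g⁻¹ * x * g) * z) * g⁻¹ := by group
    _ = g * (z * (g⁻¹ * x * g)) * g⁻¹ := by rw [e]
    _ = g * z * g⁻¹ * x := by group

theorem fitC_normal (C : Subgroup X) [C.Normal] : (fitC C).Normal := by
  haveI := CfsgLib.Fitting.fitting_characteristic (G := C)
  exact ConjAct.normal_of_characteristic_of_normal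

theorem commutator_mul_right {C : Subgroup X} {x y y' : X} (hy : y ∈ C) (h : ⁅x, y'⁆ ∈ zC C) :
    ⁅x, y * y'⁆ = ⁅x, y⁆ * ⁅x, y'⁆ := by
  have e : ⁅x, y * y'⁆ = ⁅x, y⁆ * (y * ⁅x, y'⁆ * y⁻¹) := by
    simp only [commutatorElement_def]; group
  rw [e, (commute_zC h hy).eq, mul_inv_cancel_right]

theorem commutator_mul_left {C : Subgroup X} {x x' y : X} (hx : x ∈ C) (h : ⁅x', y⁆ ∈ zC C) :
    ⁅x * x', y⁆ = ⁅x', y⁆ * ⁅x, y⁆ := by
  have e : ⁅x * x', y⁆ = x * ⁅x', y⁆ * x⁻¹ * ⁅x, y⁆ := by
    simp only [commutatorElement_def]; group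
  rw [e, (commute_zC h hx).eq, mul_inv_cancel_right]

theorem commutator_pow_left {C : Subgroup X} {x y : X} (hx : x ∈ C) (h : ⁅x, y⁆ ∈ zC C) :
    ∀ i : ℕ, ⁅x ^ i, y⁆ = ⁅x, y⁆ ^ i := by
  intro i
  induction i with
  | zero => simp
  | succ i ih =>
    rw [pow_succ, commutator_mul_left (pow_mem hx i) h, ih, pow_succ']

/-- Elements of `C` whose commutators with `M` are central in `C`. -/
def modCent (C M : Subgroup X) : Subgroup X where
  carrier := {x | x ∈ C ∧ ∀ y ∈ M, ⁅x, y⁆ ∈ zC C}
  one_mem' := ⟨one_mem C, fun y _ => by rw [commutatorElement_one_left]; exact one_mem _⟩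
  mul_mem' := fun {a b} ha hb => ⟨mul_mem ha.1 hb.1, fun y hy => by
    rw [commutator_mul_left ha.1 (hb.2 y hy)]
    exact mul_mem (hb.2 y hy) (ha.2 y hy)⟩
  inv_mem' := fun {a} ha => ⟨inv_mem ha.1, fun y hy => by
    have e : ⁅a⁻¹, y⁆ = a⁻¹ * ⁅a, y⁆⁻¹ * a := by simp only [commutatorElement_def]; group
    rw [e, (commute_zC (inv_mem (ha.2 y hy)) (inv_mem ha.1)).eq, inv_mul_cancel_right]
    exact inv_mem (ha.2 y hy)⟩

/-- The part of `C` acting trivially on `M` modulo the centre. -/
def kerMod (C M : Subgroup X) : Subgroup C := (modCent C M).subgroupOf C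

theorem modCent_normal {C M : Subgroup X} [hC : C.Normal] [hM : M.Normal] :
    (modCent C M).Normal := by
  haveI := zC_normal C
  refine ⟨fun x hx g => ⟨hC.conj_mem x hx.1 g, fun y hy => ?_⟩⟩
  have h1 := (zC_normal C).conj_mem _ (hx.2 _ (hM.conj_mem y hy g⁻¹)) g
  have e : g * ⁅x, g⁻¹ * y * g⁻¹⁻¹⁆ * g⁻¹ = ⁅g * x * g⁻¹, y⁆ := by
    simp only [commutatorElement_def]; group
  rwa [e] at h1

theorem kerMod_normal {C M : Subgroup X} [C.Normal] [M.Normal] : (kerMod C M).Normal := by
  haveI := modCent_normal (C := C) (M := M)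
  exact normal_subgroupOf

namespace Setting

variable {C : Subgroup X} {ρ : C →* Module.End k V} (h : Setting C ρ)
include h

theorem smul_one_injective : Function.Injective fun c : k => c • (1 : Module.End k V) := by
  haveI := h.nontrivial
  exact smul_left_injective k one_ne_zero

theorem mem_zC_of_scalar {a : C} {c : k} (ha : ρ a = c • 1) : (a : X) ∈ zC C := by
  refine ⟨a.2, mem_centralizer_iff.2 fun x hx => ?_⟩
  have e : ρ (⟨x, hx⟩ * a) = ρ (a * ⟨x, hx⟩) := by
    rw [map_mul, map_mul, ha, smul_one_mul, mul_smul_one]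
  exact congrArg Subtype.val (h.inj e)

theorem exists_scalar {z : X} (hz : z ∈ zC C) :
    ∃ c : k, ρ ⟨z, hz.1⟩ = c • 1 := by
  haveI := h.normal
  exact h.scalar (zC C) (zC_normal C) inf_le_left
    (fun a ha b hb => (commute_zC hb ha.1)) ⟨z, hz.1⟩ hz

/-- The scalar of a central element. -/
noncomputable def sc (z : zC C) : k := (h.exists_scalar z.2).choose

theorem sc_spec (z : zC C) : ρ ⟨(z : X), z.2.1⟩ = h.sc z • 1 := (h.exists_scalar z.2).choose_spec

/-- The scalar as a homomorphism. -/
noncomputable def scHom : zC C →* k where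
  toFun := h.sc
  map_one' := h.smul_one_injective (by
    show h.sc 1 • (1 : Module.End k V) = (1 : k) • 1
    rw [← h.sc_spec, one_smul]
    exact map_one ρ)
  map_mul' a b := h.smul_one_injective (by
    show h.sc (a * b) • (1 : Module.End k V) = (h.sc a * h.sc b) • 1
    rw [← h.sc_spec, mul_smul, ← h.sc_spec b, ← smul_one_mul, ← h.sc_spec a, ← map_mul]
    rfl)

theorem scHom_injective : Function.Injective h.scHom := fun a b e => by
  have e' : ρ ⟨(a : X), a.2.1⟩ = ρ ⟨(b : X), b.2.1⟩ := by
    rw [h.sc_spec, h.sc_spec]; exact congrArg (fun c : k => c • (1 : Module.End k V)) e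
  exact Subtype.ext (congrArg Subtype.val (h.inj e') :)

variable [Finite X]

/-- The pairing bound. -/
theorem pair_bound {L M D : Subgroup X} (hM : M ≤ C) (hDn : M ≤ normalizer (D : Set X))
    (hcom : ∀ x ∈ L, ∀ y ∈ M, ⁅x, y⁆ ∈ zC C) (hD : ∀ x ∈ L, ∀ y ∈ D, Commute x y) :
    (L ⊓ centralizer (M : Set X)).relIndex L ≤ D.relIndex M := by
  classical
  haveI : (D.subgroupOf M).Normal := normal_subgroupOf_of_le_normalizer hDn
  let χ : L → (M →* k) := fun x =>
    { toFun := fun y => h.scHom ⟨⁅(x : X), (y : X)⁆, hcom x x.2 y y.2⟩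
      map_one' := by
        have e : (⟨⁅(x : X), ((1 : M) : X)⁆, hcom x x.2 _ (1 : M).2⟩ : zC C) = 1 :=
          Subtype.ext (commutatorElement_one_right _)
        rw [e, map_one]
      map_mul' := fun y y' => by
        rw [← map_mul]
        exact congrArg h.scHom (Subtype.ext
          (commutator_mul_right (hM y.2) (hcom x x.2 y' y'.2))) }
  have hker : ∀ x : L, D.subgroupOf M ≤ (χ x).ker := fun x y hy => by
    refine MonoidHom.mem_ker.2 ?_
    show h.scHom _ = 1
    rw [← map_one h.scHom]
    exact congrArg h.scHom (Subtype.ext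
      (commutatorElement_eq_one_iff_commute.2 (hD x x.2 y (mem_subgroupOf.1 hy))))
  let ψ : L → ((M ⧸ D.subgroupOf M) →* k) := fun x => QuotientGroup.lift _ (χ x) (hker x)
  set K := (L ⊓ centralizer (M : Set X)).subgroupOf L with hK
  let F : L ⧸ K → ((M ⧸ D.subgroupOf M) →* k) := Quotient.lift ψ fun a b hab => by
    have hab' : QuotientGroup.leftRel K a b := hab
    rw [QuotientGroup.leftRel_apply] at hab'
    refine MonoidHom.ext fun q => ?_
    obtain ⟨y, rfl⟩ := QuotientGroup.mk_surjective q
    show h.scHom _ = h.scHom _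
    refine congrArg h.scHom (Subtype.ext ?_)
    have hc := mem_centralizer_iff.1 (mem_subgroupOf.1 hab').2 (y : X) y.2
    show ⁅(a : X), (y : X)⁆ = ⁅(b : X), (y : X)⁆
    simp only [commutatorElement_def]
    rw [show (b : X) * y * (b : X)⁻¹ = (a : X) * ((a⁻¹ * b : L) : X) * y * ((a⁻¹ * b : L) : X)⁻¹ *
      (a : X)⁻¹ by simp [mul_assoc], mul_assoc (a : X) ((a⁻¹ * b : L) : X), ← hc]
    group
  have hF : Function.Injective F := by
    intro p q e
    induction p using QuotientGroup.induction_on with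
    | H a =>
    induction q using QuotientGroup.induction_on with
    | H b =>
    refine QuotientGroup.eq.2 (mem_subgroupOf.2 ⟨(a⁻¹ * b : L).2, mem_centralizer_iff.2 fun y hy => ?_⟩)
    have e1 : ψ a ((⟨y, hy⟩ : M) : M ⧸ D.subgroupOf M) = ψ b ((⟨y, hy⟩ : M) : M ⧸ D.subgroupOf M) :=
      DFunLike.congr_fun e _
    have e2 : ⁅(a : X), y⁆ = ⁅(b : X), y⁆ := congrArg Subtype.val (h.scHom_injective e1)
    simp only [commutatorElement_def, mul_left_inj] at e2
    show y * ((a : X)⁻¹ * b) = (a : X)⁻¹ * b * y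
    have e3 : (a : X) * y * (a : X)⁻¹ = (b : X) * y * (b : X)⁻¹ := e2
    calc y * ((a : X)⁻¹ * b) = (a : X)⁻¹ * ((a : X) * y * (a : X)⁻¹) * b := by group
      _ = (a : X)⁻¹ * ((b : X) * y * (b : X)⁻¹) * b := by rw [e3]
      _ = (a : X)⁻¹ * b * y := by group
  haveI := Fintype.ofFinite (M ⧸ D.subgroupOf M)
  have hli := linearIndependent_monoidHom (M ⧸ D.subgroupOf M) k
  haveI : Finite ((M ⧸ D.subgroupOf M) →* k) := hli.finite
  haveI := Fintype.ofFinite ((M ⧸ D.subgroupOf M) →* k)
  show Nat.card (L ⧸ K) ≤ Nat.card (M ⧸ D.subgroupOf M)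
  refine (Nat.card_le_card_of_injective F hF).trans ?_
  rw [Nat.card_eq_fintype_card, Nat.card_eq_fintype_card]
  exact hli.fintype_card_le_finrank.trans (le_of_eq (Module.finrank_fintype_fun_eq_card k))

theorem zC_le_fitC : zC C ≤ fitC C := by
  haveI := h.normal
  haveI := zC_normal C
  intro z hz
  refine ⟨⟨z, hz.1⟩, CfsgLib.Fitting.le_fitting (N := (zC C).subgroupOf C) inferInstance ?_
    (mem_subgroupOf.2 hz), rfl⟩
  letI : CommGroup ((zC C).subgroupOf C) :=
    { (inferInstance : Group ((zC C).subgroupOf C)) with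
      mul_comm := fun a b => Subtype.ext (Subtype.ext
        (commute_zC (mem_subgroupOf.1 b.2) (a : C).2).eq) }
  infer_instance

theorem eq_zC_of_abelian {A : Subgroup X} (hA : A.Normal) (hAC : A ≤ C)
    (hc : ∀ a ∈ A, ∀ b ∈ A, Commute a b) : A ≤ zC C := fun a ha => by
  obtain ⟨c, hc⟩ := h.scalar A hA hAC hc ⟨a, hAC ha⟩ ha
  exact h.mem_zC_of_scalar hc

/-- The Fitting subgroup is abelian modulo scalars. -/
theorem commutator_fitC : ∀ x ∈ fitC C, ∀ y ∈ fitC C, ⁅x, y⁆ ∈ zC C := by
  haveI := h.normal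
  haveI := fitC_normal C
  haveI := zC_normal C
  set F := fitC C with hF
  haveI hnil : Group.IsNilpotent F := by
    haveI := CfsgLib.Fitting.fitting_isNilpotent (G := C)
    exact Group.nilpotent_of_mulEquiv (Subgroup.equivMapOfInjective _ C.subtype C.subtype_injective)
  let s : ℕ → Subgroup X := fun i => ((⊤ : Subgroup F).lowerCentralSeries i).map F.subtype
  have hs0 : s 0 = F := by
    show ((⊤ : Subgroup F).lowerCentralSeries 0).map F.subtype = F
    rw [Subgroup.lowerCentralSeries_zero, ← MonoidHom.range_eq_map, range_subtype]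
  have hsucc : ∀ i, s (i + 1) = ⁅s i, F⁆ := fun i => by
    show ((⊤ : Subgroup F).lowerCentralSeries (i + 1)).map F.subtype = _
    rw [Subgroup.lowerCentralSeries_succ, map_commutator, ← MonoidHom.range_eq_map, range_subtype]
  have hnormal : ∀ i, (s i).Normal := by
    intro i
    induction i with
    | zero => rw [hs0]; infer_instance
    | succ i ih => rw [hsucc]; exact commutator_normal (s i) F
  have hle : ∀ i, s i ≤ F := fun i => map_subtype_le _
  have hanti : ∀ i, s (i + 1) ≤ s i := fun i => by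
    haveI := hnormal i
    rw [hsucc]
    exact commutator_le_left _ _
  have hex : ∃ i, s i ≤ zC C := by
    obtain ⟨N, hN⟩ := (Subgroup.nilpotent_iff_lowerCentralSeries).1 hnil
    exact ⟨N, by show Subgroup.map _ _ ≤ _; rw [hN, Subgroup.map_bot]; exact bot_le⟩
  classical
  have h1 : s 1 ≤ zC C := by
    by_contra hcon
    obtain ⟨j, hj⟩ : ∃ j, Nat.find hex = j + 2 := by
      have hfs := Nat.find_spec hex
      rcases hf : Nat.find hex with _ | _ | j
      · rw [hf] at hfs; exact absurd ((hanti 0).trans hfs) hcon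
      · rw [hf] at hfs; exact absurd hfs hcon
      · exact ⟨j, rfl⟩
    have hspec : ⁅s (j + 1), F⁆ ≤ zC C := hsucc (j + 1) ▸ hj ▸ Nat.find_spec hex
    have hnot : ¬ s (j + 1) ≤ zC C := Nat.find_min hex (by omega)
    have hz : ⁅zC C, F⁆ = ⊥ := by
      rw [eq_bot_iff, commutator_le]
      intro z hz x hx
      exact mem_bot.2 (commutatorElement_eq_one_iff_commute.2
        (commute_zC hz (fitC_le C hx)).symm)
    have h3 : ⁅⁅F, F⁆, s (j + 1)⁆ = ⊥ := by
      refine commutator_commutator_eq_bot_of_rotate ?_ ?_ <;> rw [eq_bot_iff, ← hz]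
      · exact commutator_mono ((commutator_comm F (s (j + 1))).le.trans hspec) le_rfl
      · exact commutator_mono hspec le_rfl
    refine hnot (h.eq_zC_of_abelian (hnormal _) ((hle _).trans (fitC_le C)) fun a ha b hb => ?_)
    have hmem : a ∈ ⁅F, F⁆ := by
      have h0 : ∀ i, s (i + 1) ≤ s 1 := by
        intro i
        induction i with
        | zero => exact le_rfl
        | succ i ih => exact (hanti (i + 1)).trans ih
      have := h0 j ha
      rw [hsucc, hs0] at this
      exact this
    exact commutatorElement_eq_one_iff_commute.1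
      (mem_bot.1 (h3 ▸ commutator_mem_commutator hmem hb))
  intro x hx y hy
  refine h1 ?_
  rw [hsucc, hs0]
  exact commutator_mem_commutator hx hy

theorem le_modCent_of_le {N : Subgroup X} (hN : N ≤ fitC C) {M : Subgroup X} (hM : M ≤ fitC C) :
    N ≤ modCent C M := fun x hx =>
  ⟨fitC_le C (hN hx), fun y hy => h.commutator_fitC x (hN hx) y (hM hy)⟩

theorem inf_centralizer_self {M : Subgroup X} (hM : M.Normal) (hZ : zC C ≤ M) (hMF : M ≤ fitC C) :
    M ⊓ centralizer (M : Set X) = zC C := by
  haveI := hM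
  refine le_antisymm (h.eq_zC_of_abelian inferInstance ((inf_le_left).trans (hMF.trans (fitC_le C)))
    fun a ha b hb => (mem_centralizer_iff.1 hb.2 a ha.1)) ?_
  exact le_inf hZ fun z hz => mem_centralizer_iff.2 fun x hx =>
    (commute_zC hz (fitC_le C (hMF hx))).eq

/-- Every normal subgroup above the scalars has an orthogonal complement. -/
theorem complement {M N : Subgroup X} (hM : M.Normal) (hN : N.Normal) (hZ : zC C ≤ N) (hNM : N ≤ M)
    (hMF : M ≤ fitC C) :
    N ⊔ (M ⊓ centralizer (N : Set X)) = M ∧ N ⊓ (M ⊓ centralizer (N : Set X)) = zC C ∧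
      (M ⊓ centralizer (N : Set X)).relIndex M = (zC C).relIndex N := by
  haveI := hM
  haveI := hN
  haveI := h.normal
  haveI := zC_normal C
  set N' := M ⊓ centralizer (N : Set X) with hN'
  haveI : N'.Normal := inferInstance
  have hinf : N ⊓ N' = zC C := by
    rw [← h.inf_centralizer_self hN hZ (hNM.trans hMF)]
    exact le_antisymm (fun x hx => ⟨hx.1, hx.2.2⟩) fun x hx => ⟨hx.1, hNM hx.1, hx.2⟩
  have hb : N'.relIndex M ≤ (zC C).relIndex N :=
    h.pair_bound ((hNM.trans hMF).trans (fitC_le C)) (le_normalizer_of_normal)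
      (fun x hx y hy => h.commutator_fitC x (hMF hx) y (hMF (hNM hy)))
      (fun x hx y hy => commute_zC hy (fitC_le C (hMF hx)))
  have hle : N ⊔ N' ≤ M := sup_le hNM inf_le_left
  have e1 : N'.relIndex (N ⊔ N') = (zC C).relIndex N := by
    rw [relIndex_sup_right, ← hinf, inf_relIndex_left]
  have e2 : N'.relIndex (N ⊔ N') * (N ⊔ N').relIndex M = N'.relIndex M :=
    relIndex_mul_relIndex _ _ _ le_sup_right hle
  have hpos : 0 < (zC C).relIndex N :=
    Nat.pos_of_ne_zero ((relIndex_ne_zero' _ _))
  have h1 : (N ⊔ N').relIndex M = 1 := by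
    rw [e1] at e2
    have hne : (N ⊔ N').relIndex M ≠ 0 := (relIndex_ne_zero' _ _)
    by_contra hne1
    have : 2 ≤ (N ⊔ N').relIndex M := by omega
    have := Nat.mul_le_mul_left ((zC C).relIndex N) this
    omega
  refine ⟨le_antisymm hle (relIndex_eq_one.1 h1), hinf, ?_⟩
  rw [← e2, h1, mul_one, e1]

theorem exists_square {M : Subgroup X} (hM : M.Normal) (hZ : zC C ≤ M) (hMF : M ≤ fitC C) :
    ∃ m, 1 ≤ m ∧ (zC C).relIndex M = m * m := by
  haveI := hM
  haveI := h.normal
  haveI := zC_normal C
  have hMC := hMF.trans (fitC_le C)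
  let S : Set (Subgroup X) := {A | zC C ≤ A ∧ A ≤ M ∧ ∀ a ∈ A, ∀ b ∈ A, Commute a b}
  obtain ⟨A, ⟨hZA, hAM, hAc⟩, hmax⟩ := (Set.toFinite S).exists_maximal
    ⟨zC C, le_rfl, hZ, fun a ha b hb => commute_zC hb ha.1⟩
  have hA : M ⊓ centralizer (A : Set X) = A := by
    refine le_antisymm (fun x hx => ?_)
      (le_inf hAM fun a ha => mem_centralizer_iff.2 fun b hb => (hAc b hb a ha).eq)
    have hS : A ⊔ zpowers x ∈ S := by
      refine ⟨hZA.trans le_sup_left, sup_le hAM (zpowers_le.2 hx.1), fun a ha b hb => ?_⟩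
      have hle : A ⊔ zpowers x ≤ centralizer ((A ⊔ zpowers x : Subgroup X) : Set X) := by
        refine sup_le ?_ ?_
        · rw [le_centralizer_iff]
          refine sup_le (fun c hc => mem_centralizer_iff.2 fun d hd => (hAc d hd c hc).eq) ?_
          exact zpowers_le.2 hx.2
        · rw [le_centralizer_iff]
          refine sup_le (fun c hc => mem_centralizer_iff.2 ?_) ?_
          · rintro d ⟨i, rfl⟩
            exact ((show Commute c x from mem_centralizer_iff.1 hx.2 c hc).zpow_right i).symm.eq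
          · exact zpowers_le.2 (mem_centralizer_iff.2 fun d hd => by
              obtain ⟨i, rfl⟩ := hd
              exact ((Commute.refl x).zpow_left i).eq)
      exact (mem_centralizer_iff.1 (hle hb) a ha)
    exact hmax hS le_sup_left (mem_sup_right (mem_zpowers x))
  have hAn : M ≤ normalizer (A : Set X) := by
    have key : ∀ g ∈ M, ∀ a ∈ A, g * a * g⁻¹ ∈ A := fun g hg a ha => by
      have e : g * a * g⁻¹ = ⁅g, a⁆ * a := by simp only [commutatorElement_def]; group
      rw [e]
      exact mul_mem (hZA (h.commutator_fitC g (hMF hg) a (hMF (hAM ha)))) ha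
    exact fun g hg => mem_normalizer_iff.2 fun a =>
      ⟨key g hg a, fun ha => by simpa [mul_assoc] using key g⁻¹ (inv_mem hg) _ ha⟩
  have b1 : A.relIndex M ≤ (zC C).relIndex A := by
    have := h.pair_bound (L := M) (D := zC C) (hAM.trans hMC) le_normalizer_of_normal
      (fun x hx y hy => h.commutator_fitC x (hMF hx) y (hMF (hAM hy)))
      (fun x hx y hy => commute_zC hy (hMC hx))
    rwa [hA] at this
  have b2 : (zC C).relIndex A ≤ A.relIndex M := by
    have e : A ⊓ centralizer (M : Set X) = zC C :=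
      le_antisymm (fun x hx => (h.inf_centralizer_self hM hZ hMF).le ⟨hAM hx.1, hx.2⟩)
        (le_inf hZA fun z hz => mem_centralizer_iff.2 fun x hx => (commute_zC hz (hMC hx)).eq)
    have := h.pair_bound (L := A) (D := A) hMC hAn
      (fun x hx y hy => h.commutator_fitC x (hMF (hAM hx)) y (hMF hy))
      (fun x hx y hy => hAc x hx y hy)
    rwa [e] at this
  refine ⟨A.relIndex M, Nat.pos_of_ne_zero (relIndex_ne_zero' _ _), ?_⟩
  have := relIndex_mul_relIndex _ _ _ hZA hAM
  rw [← this, le_antisymm b2 b1]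

/-- The Fitting subgroup is the kernel of the action on itself modulo scalars. -/
theorem kerMod_fitC : kerMod C (fitC C) = Cfsg.fittingSubgroup C := by
  haveI := h.normal
  haveI := zC_normal C
  haveI := h.solvable
  set F := fitC C with hF
  have hFL : F ≤ modCent C F := h.le_modCent_of_le le_rfl le_rfl
  have hcent : modCent C F ⊓ centralizer (F : Set X) ≤ zC C := by
    intro x hx
    have hxF : x ∈ F := by
      refine ⟨⟨x, hx.1.1⟩, CfsgLib.Fitting.centralizer_fitting_le
        (mem_centralizer_iff.2 fun y hy => Subtype.ext ?_), rfl⟩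
      exact mem_centralizer_iff.1 hx.2 (y : X) ⟨y, hy, rfl⟩
    haveI := fitC_normal C
    exact (h.inf_centralizer_self inferInstance h.zC_le_fitC le_rfl).le ⟨hxF, hx.2⟩
  have hb : (zC C).relIndex (modCent C F) ≤ (zC C).relIndex F := by
    have heq : modCent C F ⊓ centralizer (F : Set X) = zC C :=
      le_antisymm hcent (le_inf (h.zC_le_fitC.trans hFL)
        fun z hz => mem_centralizer_iff.2 fun x hx => (commute_zC hz (fitC_le C hx)).eq)
    have := h.pair_bound (L := modCent C F) (D := zC C) (fitC_le C) le_normalizer_of_normal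
      (fun x hx y hy => hx.2 y hy) (fun x hx y hy => commute_zC hy hx.1)
    rwa [heq] at this
  have heq : modCent C F = F := by
    refine le_antisymm ?_ hFL
    rw [← relIndex_eq_one]
    have e := relIndex_mul_relIndex _ _ _ h.zC_le_fitC hFL
    have hpos : 0 < (zC C).relIndex F := Nat.pos_of_ne_zero (relIndex_ne_zero' _ _)
    have hne : F.relIndex (modCent C F) ≠ 0 := (relIndex_ne_zero' _ _)
    by_contra hne1
    have : 2 ≤ F.relIndex (modCent C F) := by omega
    have := Nat.mul_le_mul_left ((zC C).relIndex F) this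
    rw [← hF] at e
    omega
  rw [kerMod, heq, hF, fitC, subgroupOf, comap_map_eq_self_of_injective C.subtype_injective]

omit [Finite X] in
theorem prime_dvd_of_elt {x y : X} {p : ℕ} [hp : Fact p.Prime] (hx : x ∈ C) (hy : y ∈ C)
    (hxy : ⁅x, y⁆ ∈ zC C) (hne : ⁅x, y⁆ ≠ 1) (hpow : x ^ p ∈ zC C) : p ∣ Nat.card (zC C) := by
  have e : (⟨⁅x, y⁆, hxy⟩ : zC C) ^ p = 1 := Subtype.ext (by
    rw [SubmonoidClass.coe_pow, ← commutator_pow_left hx hxy, OneMemClass.coe_one,
      commutatorElement_eq_one_iff_commute]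
    exact (commute_zC hpow hy).symm)
  rw [← orderOf_eq_prime e fun e1 => hne (congrArg Subtype.val e1)]
  exact orderOf_dvd_natCard _

/-- Primes of the Fitting quotient divide the order of the scalars. -/
theorem prime_dvd_zC {M : Subgroup X} (hM : M.Normal) (hZ : zC C ≤ M) (hMF : M ≤ fitC C) {p : ℕ}
    (hp : p.Prime) (hd : p ∣ (zC C).relIndex M) : p ∣ Nat.card (zC C) := by
  haveI := Fact.mk hp
  haveI := h.normal
  haveI := zC_normal C
  obtain ⟨q, hq⟩ := exists_prime_orderOf_dvd_card' (G := M ⧸ (zC C).subgroupOf M) p hd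
  obtain ⟨x, rfl⟩ := QuotientGroup.mk_surjective q
  have hxz : (x : X) ∉ zC C := fun hxz => hp.ne_one (by
    rw [← hq, (QuotientGroup.eq_one_iff x).2 (mem_subgroupOf.2 hxz), orderOf_one])
  have hxp : (x : X) ^ p ∈ zC C := by
    have e : ((x ^ p : M) : M ⧸ (zC C).subgroupOf M) = 1 := by
      rw [QuotientGroup.mk_pow, ← hq, pow_orderOf_eq_one]
    exact mem_subgroupOf.1 ((QuotientGroup.eq_one_iff _).1 e)
  obtain ⟨y, hy, hne⟩ : ∃ y ∈ M, ⁅(x : X), y⁆ ≠ 1 := by
    by_contra! hcon
    refine hxz ((h.inf_centralizer_self hM hZ hMF).le ⟨x.2, mem_centralizer_iff.2 fun y hy => ?_⟩)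
    exact (commutatorElement_eq_one_iff_commute.1 (hcon y hy)).eq.symm
  exact h.prime_dvd_of_elt (fitC_le C (hMF x.2)) (fitC_le C (hMF hy))
    (h.commutator_fitC x (hMF x.2) y (hMF hy)) hne hxp

/-- Cosets of the scalars in the Fitting subgroup are linearly independent. -/
theorem relIndex_fitC_le [FiniteDimensional k V] :
    (zC C).relIndex (fitC C) ≤ Module.finrank k V * Module.finrank k V := by
  classical
  haveI := h.normal
  haveI := fitC_normal C
  set F := fitC C with hF
  let T := F ⧸ (zC C).subgroupOf F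
  haveI := Fintype.ofFinite T
  have hFC : ∀ x : F, (x : X) ∈ C := fun x => fitC_le C x.2
  let v : T → Module.End k V := fun t => ρ ⟨_, hFC t.out⟩
  have key : ∀ s : Finset T, ∀ a : T → k, ∑ t ∈ s, a t • v t = 0 → ∀ t ∈ s, a t = 0 := by
    intro s
    induction s using Finset.induction_on with
    | empty => exact fun _ _ t ht => absurd ht (Finset.notMem_empty t)
    | insert t0 s ht0 ih =>
      intro a ha
      have hlam : ∀ (y : F) (t : T), ∃ c : k, ρ ⟨_, hFC y⟩ * v t * ρ ⟨_, hFC y⁻¹⟩ = c • v t := by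
        intro y t
        have hz := h.commutator_fitC y y.2 t.out t.out.2
        refine ⟨h.sc ⟨_, hz⟩, ?_⟩
        rw [← smul_one_mul (h.sc _) (v t), ← h.sc_spec, ← map_mul, ← map_mul, ← map_mul]
        exact congrArg ρ (Subtype.ext (by
          show (y : X) * t.out * ((y⁻¹ : F) : X) = ⁅(y : X), (t.out : X)⁆ * t.out
          simp only [commutatorElement_def, InvMemClass.coe_inv]; group))
      choose lam hlam using hlam
      have hrest : ∀ t ∈ s, a t = 0 := by
        intro t ht
        -- some element separates `t` from `t0`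
        obtain ⟨y, hy⟩ : ∃ y : F, lam y t ≠ lam y t0 := by
          by_contra! hcon
          refine ht0 ?_
          suffices t = t0 by rwa [← this]
          rw [← QuotientGroup.out_eq' t, ← QuotientGroup.out_eq' t0, QuotientGroup.eq,
            mem_subgroupOf]
          refine (h.inf_centralizer_self inferInstance h.zC_le_fitC le_rfl).le
            ⟨((t.out)⁻¹ * t0.out : F).2, mem_centralizer_iff.2 fun y hy => ?_⟩
          have e1 : ∀ u : T, (⟨_, h.commutator_fitC y hy u.out u.out.2⟩ : zC C) =
              ⟨_, h.commutator_fitC y hy u.out u.out.2⟩ := fun u => rfl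
          have hl : ∀ u : T, h.sc ⟨_, h.commutator_fitC y hy u.out u.out.2⟩ = lam ⟨y, hy⟩ u := by
            intro u
            have hu := hlam ⟨y, hy⟩ u
            have e : ρ ⟨_, hFC ⟨y, hy⟩⟩ * v u * ρ ⟨_, hFC ⟨y, hy⟩⁻¹⟩ =
                h.sc ⟨_, h.commutator_fitC y hy u.out u.out.2⟩ • v u := by
              rw [← smul_one_mul (h.sc _) (v u), ← h.sc_spec, ← map_mul, ← map_mul, ← map_mul]
              exact congrArg ρ (Subtype.ext (by
                show y * (u.out : X) * y⁻¹ = ⁅y, (u.out : X)⁆ * u.out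
                simp only [commutatorElement_def]; group))
            haveI := h.nontrivial
            refine smul_left_injective k (?_ : v u ≠ 0) (e.symm.trans hu)
            intro hv0
            have h1 : ρ ⟨_, hFC u.out⟩ * ρ ⟨_, hFC u.out⟩⁻¹ = 1 := by
              rw [← map_mul, mul_inv_cancel, map_one]
            rw [show ρ ⟨_, hFC u.out⟩ = 0 from hv0, zero_mul] at h1
            exact zero_ne_one h1
          have e2 : ⁅y, (t.out : X)⁆ = ⁅y, (t0.out : X)⁆ := congrArg Subtype.val
            (h.scHom_injective (show h.sc _ = h.sc _ by rw [hl, hl]; exact hcon ⟨y, hy⟩) :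
              (⟨_, h.commutator_fitC y hy t.out t.out.2⟩ : zC C) =
                ⟨_, h.commutator_fitC y hy t0.out t0.out.2⟩)
          simp only [commutatorElement_def, mul_assoc, mul_right_inj] at e2
          show y * (((t.out : X))⁻¹ * t0.out) = (t.out : X)⁻¹ * t0.out * y
          have e3 : (t.out : X) * (y⁻¹ * (t.out : X)⁻¹) = (t0.out : X) * (y⁻¹ * (t0.out : X)⁻¹) := e2
          have e4 := congrArg (fun z : X => z⁻¹) e3
          simp only [mul_inv_rev, inv_inv] at e4
          calc y * ((t.out : X)⁻¹ * t0.out)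
              = (t.out : X)⁻¹ * ((t.out : X) * y * (t.out : X)⁻¹) * t0.out := by group
            _ = (t.out : X)⁻¹ * ((t0.out : X) * y * (t0.out : X)⁻¹) * t0.out := by rw [e4]
            _ = (t.out : X)⁻¹ * t0.out * y := by group
        have h1 := congrArg (fun w => ρ ⟨_, hFC y⟩ * w * ρ ⟨_, hFC y⁻¹⟩ - lam y t0 • w) ha
        simp only [Finset.mul_sum, Finset.sum_mul, Finset.smul_sum, mul_zero, zero_mul, smul_zero,
          sub_zero, ← Finset.sum_sub_distrib] at h1
        have h2 : ∑ t ∈ s, (a t * (lam y t - lam y t0)) • v t = 0 := by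
          rw [Finset.sum_insert ht0] at h1
          rw [mul_smul_comm, smul_mul_assoc, hlam, smul_comm, sub_self, zero_add] at h1
          refine Eq.trans (Finset.sum_congr rfl fun u _ => ?_) h1
          rw [mul_smul_comm, smul_mul_assoc, hlam, smul_smul, smul_smul, ← sub_smul, mul_sub,
            mul_comm (a u) (lam y t0)]
        exact (mul_eq_zero.1 (ih _ h2 t ht)).resolve_right (sub_ne_zero.2 hy)
      intro t ht
      rcases Finset.mem_insert.1 ht with rfl | ht
      · rw [Finset.sum_insert ht0, Finset.sum_eq_zero fun u hu => by rw [hrest u hu, zero_smul],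
          add_zero] at ha
        haveI := h.nontrivial
        refine (smul_eq_zero.1 ha).resolve_right fun hv0 => ?_
        have h1 : ρ ⟨_, hFC t.out⟩ * ρ ⟨_, hFC t.out⟩⁻¹ = 1 := by
          rw [← map_mul, mul_inv_cancel, map_one]
        rw [show ρ ⟨_, hFC t.out⟩ = 0 from hv0, zero_mul] at h1
        exact zero_ne_one h1
      · exact hrest t ht
  have hli : LinearIndependent k v :=
    Fintype.linearIndependent_iff.2 fun a ha t => key Finset.univ a ha t (Finset.mem_univ t)
  show Nat.card T ≤ _
  rw [Nat.card_eq_fintype_card]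
  exact hli.fintype_card_le_finrank.trans (le_of_eq (Module.finrank_linearMap k k V V))

end Setting

end CfsgLib.ClassBound
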