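import Cfsg.Agent.Lib.ClassBound.Basic
import Cfsg.Agent.Lib.Maximal.CompLengthBound

/-!
# Class numbers of solvable permutation groups

Every subgroup of a solvable permutation group of degree `n` has at most `3 ^ (n - 1)` classes.
-/

set_option autoImplicit false
set_option linter.style.haveILetI false

namespace CfsgLib.ClassBound

open Subgroup

theorem two_pow_sq_le (d : ℕ) (hd : 5 ≤ d) : 2 ^ ((d + 1) ^ 2) ≤ 3 ^ (2 ^ d - 1) := by
  have key : ∀ d, 5 ≤ d → (d + 1) ^ 2 + 8 ≤ (3 * (2 ^ d - 1)) / 2 := by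
    intro d hd
    induction d, hd using Nat.le_induction with
    | base => norm_num
    | succ d hd ih =>
      have h2 : (2 : ℕ) ^ (d + 1) = 2 * 2 ^ d := pow_succ' 2 d
      have h3 : (d + 1 + 1) ^ 2 + 1 ≤ 2 * (d + 1) ^ 2 := by nlinarith
      omega
  calc 2 ^ ((d + 1) ^ 2) ≤ 2 ^ ((3 * (2 ^ d - 1)) / 2) :=
        Nat.pow_le_pow_right (by norm_num) (by have := key d hd; omega)
    _ ≤ 3 ^ (2 ^ d - 1) := by
      refine (Nat.pow_le_pow_iff_left (n := 2) (by norm_num)).1 ?_
      rw [← pow_mul, ← pow_mul]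
      calc 2 ^ (3 * (2 ^ d - 1) / 2 * 2) ≤ 2 ^ (3 * (2 ^ d - 1)) :=
            Nat.pow_le_pow_right (by norm_num) (Nat.div_mul_le_self _ _)
        _ = 8 ^ (2 ^ d - 1) := by rw [pow_mul]; norm_num
        _ ≤ 9 ^ (2 ^ d - 1) := Nat.pow_le_pow_left (by norm_num) _
        _ = 3 ^ ((2 ^ d - 1) * 2) := by rw [mul_comm, pow_mul]; norm_num

/-- Arithmetic for a regular normal subgroup generated by `d` elements. -/
theorem arith_regular_pow {t d : ℕ} (ht : 5 ≤ t) (hd : 2 ^ d ≤ t) :
    t * (t - 1).descFactorial d ≤ 3 ^ (t - 1) := by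
  by_cases h32 : t < 32
  · have hd5 : d < 5 := by
      by_contra h
      have := Nat.pow_le_pow_right (show 0 < 2 by norm_num) (not_lt.1 h)
      omega
    interval_cases t <;> interval_cases d <;> first | omega | decide
  · have hL : 5 ≤ Nat.log 2 t := Nat.le_log_of_pow_le (by norm_num) (by omega)
    have h1 : d ≤ Nat.log 2 t := Nat.le_log_of_pow_le (by norm_num) hd
    have h2 : t < 2 ^ (Nat.log 2 t + 1) := Nat.lt_pow_succ_log_self (by norm_num) t
    have h3 : 2 ^ Nat.log 2 t ≤ t := Nat.pow_log_le_self 2 (by omega)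
    calc t * (t - 1).descFactorial d ≤ t * t ^ d :=
          Nat.mul_le_mul_left _ ((Nat.descFactorial_le_pow _ _).trans
            (Nat.pow_le_pow_left (Nat.sub_le t 1) d))
      _ = t ^ (d + 1) := by rw [pow_succ]; ring
      _ ≤ (2 ^ (Nat.log 2 t + 1)) ^ (Nat.log 2 t + 1) :=
          (Nat.pow_le_pow_left h2.le _).trans (Nat.pow_le_pow_right (by positivity) (by omega))
      _ = 2 ^ ((Nat.log 2 t + 1) ^ 2) := by rw [← pow_mul, sq]
      _ ≤ 3 ^ (2 ^ Nat.log 2 t - 1) := two_pow_sq_le _ hL
      _ ≤ 3 ^ (t - 1) := Nat.pow_le_pow_right (by norm_num) (by omega)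

theorem exists_abelian_normal (G : Type*) [Group G] [Finite G] [Nontrivial G]
    (hG : Group.IsSolvable G) :
    ∃ N : Subgroup G, N.Normal ∧ N ≠ ⊥ ∧ IsMulCommutative N := by
  obtain ⟨N, hne, hN, hmin⟩ := CfsgLib.Structure.exists_isMinNormal (G := G)
  haveI := hN
  haveI := hG
  haveI : Nontrivial N := (nontrivial_iff_ne_bot N).2 hne
  have hlt : ⁅N, N⁆ < N := by
    rw [← map_subtype_commutator]
    have := map_subtype_lt_map_subtype.mpr
      (Group.IsSolvable.commutator_lt_top_of_nontrivial (G := N))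
    rwa [← MonoidHom.range_eq_map, range_subtype] at this
  have h0 := (hmin ⁅N, N⁆ (commutator_normal N N) hlt.le).resolve_right hlt.ne
  refine ⟨N, hN, hne, ⟨⟨fun a b => Subtype.ext ?_⟩⟩⟩
  exact (commutatorElement_eq_one_iff_commute.1
    (mem_bot.1 (h0 ▸ commutator_mem_commutator a.2 b.2))).eq

/-- The permutations induced on an invariant set. -/
def inducedHom {G : Type*} [Group G] {Ω : Type*} [MulAction G Ω] (A : Set Ω)
    (hA : ∀ (g : G), ∀ x ∈ A, g • x ∈ A) : G →* Equiv.Perm A where
  toFun g :=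
    { toFun := fun x => ⟨g • (x : Ω), hA g x x.2⟩
      invFun := fun x => ⟨g⁻¹ • (x : Ω), hA g⁻¹ x x.2⟩
      left_inv := fun x => Subtype.ext (inv_smul_smul g (x : Ω))
      right_inv := fun x => Subtype.ext (smul_inv_smul g (x : Ω)) }
  map_one' := Equiv.ext fun x => Subtype.ext (one_smul G (x : Ω))
  map_mul' g h := Equiv.ext fun x => Subtype.ext (mul_smul g h (x : Ω))

universe u v

/-- The bound in degree `n`. -/
def PermBound (n : ℕ) : Prop :=
  ∀ (G : Type u) (Ω : Type v) [Group G] [Finite G] [Fintype Ω] [MulAction G Ω] [FaithfulSMul G Ω],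
    Group.IsSolvable G → Fintype.card Ω = n → KBound G (3 ^ (n - 1))

theorem PermBound.of_hom {n : ℕ} (h : PermBound.{u, v} n) {G : Type u} [Group G] [Finite G]
    (hG : Group.IsSolvable G) {Ω : Type v} [Fintype Ω] (f : G →* Equiv.Perm Ω)
    (hf : Function.Injective f) (hn : Fintype.card Ω = n) : KBound G (3 ^ (n - 1)) := by
  letI : MulAction G Ω := MulAction.compHom Ω f
  haveI : FaithfulSMul G Ω := ⟨fun {g g'} hgg => hf (Equiv.ext hgg)⟩
  exact h G Ω hG hn

/-- Bound for the image of a hom into a symmetric group. -/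
theorem PermBound.of_quot {n : ℕ} (h : PermBound.{u, v} n) {G : Type u} [Group G] [Finite G]
    (hG : Group.IsSolvable G) {Ω : Type v} [Fintype Ω] (f : G →* Equiv.Perm Ω)
    (hn : Fintype.card Ω = n) : KBound (G ⧸ f.ker) (3 ^ (n - 1)) :=
  haveI := hG
  h.of_hom inferInstance (QuotientGroup.kerLift f) (QuotientGroup.kerLift_injective f) hn

theorem sum_sub_one_add_card {ι : Type*} [Fintype ι] (s : ι → ℕ) (hs : ∀ i, 1 ≤ s i) :
    ∑ i, (s i - 1) + Fintype.card ι = ∑ i, s i := by
  rw [← Finset.card_univ, Finset.card_eq_sum_ones, ← Finset.sum_add_distrib]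
  exact Finset.sum_congr rfl fun i _ => Nat.sub_add_cancel (hs i)

theorem permBound : ∀ n, PermBound.{u, v} n := by
  intro n
  induction n using Nat.strong_induction_on with
  | _ n ih =>
  intro G Ω _ _ _ _ _ hG hn
  classical
  haveI := hG
  by_cases hn4 : n ≤ 4
  · refine KBound.of_card ?_
    refine (Nat.card_le_card_of_injective (MulAction.toPermHom G Ω) MulAction.toPerm_injective).trans ?_
    rw [Nat.card_perm, Nat.card_eq_fintype_card, hn]
    interval_cases n <;> decide
  haveI : Nonempty Ω := Fintype.card_pos_iff.1 (by omega)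
  by_cases hGtr : MulAction.IsPretransitive G Ω
  swap
  · -- at least two orbits
    obtain ⟨α, β, hαβ⟩ : ∃ α β : Ω, β ∉ MulAction.orbit G α := by
      by_contra! hcon
      exact hGtr ⟨fun a b => hcon a b⟩
    let A : Set Ω := MulAction.orbit G α
    have hA : ∀ (g : G), ∀ x ∈ A, g • x ∈ A := fun g x hx => by
      obtain ⟨h, rfl⟩ := hx
      exact ⟨g * h, mul_smul g h α⟩
    have hB : ∀ (g : G), ∀ x ∈ Aᶜ, g • x ∈ Aᶜ := fun g x hx hgx => hx (by
      simpa using hA g⁻¹ _ hgx)
    have hsum : Fintype.card A + Fintype.card (Aᶜ : Set Ω) = n := by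
      rw [← hn, Fintype.card_compl_set]
      have := Fintype.card_subtype_le (fun x => x ∈ A)
      simp only [Fintype.card_ofFinset] at *
      omega
    have hApos : 0 < Fintype.card A := Fintype.card_pos_iff.2 ⟨⟨α, MulAction.mem_orbit_self α⟩⟩
    have hBpos : 0 < Fintype.card (Aᶜ : Set Ω) := Fintype.card_pos_iff.2 ⟨⟨β, hαβ⟩⟩
    let fA := inducedHom A hA
    let fB := inducedHom Aᶜ hB
    have h1 : KBound (G ⧸ fA.ker) (3 ^ (Fintype.card A - 1)) :=
      (ih _ (by omega)).of_quot hG fA rfl
    have h2 : KBound fA.ker (3 ^ (Fintype.card (Aᶜ : Set Ω) - 1)) := by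
      refine (ih _ (by omega)).of_hom inferInstance (fB.comp fA.ker.subtype) ?_ rfl
      refine (injective_iff_map_eq_one _).2 fun x hx => Subtype.ext ?_
      refine eq_of_smul_eq_smul fun y : Ω => ?_
      rw [OneMemClass.coe_one, one_smul]
      by_cases hy : y ∈ A
      · exact congrArg Subtype.val (DFunLike.congr_fun (MonoidHom.mem_ker.1 x.2 : fA x = 1) ⟨y, hy⟩)
      · exact congrArg Subtype.val (DFunLike.congr_fun (hx : fB (x : G) = 1) ⟨y, hy⟩)
    have h3 := KBound.of_hom (QuotientGroup.mk' fA.ker)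
      (a := 3 ^ (Fintype.card (Aᶜ : Set Ω) - 1))
      (by rw [QuotientGroup.ker_mk']; exact h2) h1
    refine h3.mono ?_
    rw [← pow_add]
    exact Nat.pow_le_pow_right (by norm_num) (by omega)
  haveI := hGtr
  haveI : Nontrivial Ω := Fintype.one_lt_card_iff_nontrivial.1 (by omega)
  haveI : Nontrivial G := by
    obtain ⟨a, b, hab⟩ := exists_pair_ne Ω
    obtain ⟨g, hg⟩ := MulAction.exists_smul_eq G a b
    exact ⟨⟨g, 1, fun e => hab (by rw [← hg, e, one_smul])⟩⟩
  obtain ⟨N, hN, hNne, hNc⟩ := exists_abelian_normal G hG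
  haveI := hN
  obtain ⟨α⟩ : Nonempty Ω := inferInstance
  let ι := MulAction.orbitRel.Quotient N Ω
  haveI : Fintype ι := Fintype.ofFinite ι
  let q : Ω → ι := Quotient.mk (MulAction.orbitRel N Ω)
  have hq : ∀ (g : G) (a b : Ω), q a = q b → q (g • a) = q (g • b) := by
    intro g a b hab
    obtain ⟨x, rfl⟩ : a ∈ MulAction.orbit N b := Quotient.exact hab
    refine Quotient.sound ⟨⟨g * x * g⁻¹, hN.conj_mem x x.2 g⟩, ?_⟩
    show (g * (x : G) * g⁻¹) • g • b = g • (x : G) • b
    rw [mul_smul, mul_smul, inv_smul_smul]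
  by_cases hone : Fintype.card ι = 1
  · -- regular normal subgroup
    haveI : MulAction.IsPretransitive N Ω := ⟨fun a b => by
      have hsub : Subsingleton ι := Fintype.card_le_one_iff_subsingleton.1 hone.le
      exact Quotient.exact (hsub.elim (q b) (q a))⟩
    have hreg : ∀ x : N, x • α = α → x = 1 := by
      intro x hx
      refine Subtype.ext (eq_of_smul_eq_smul fun y : Ω => ?_)
      obtain ⟨m, rfl⟩ := MulAction.exists_smul_eq N α y
      show (x : G) • (m • α) = (1 : G) • (m • α)
      rw [one_smul]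
      show x • m • α = m • α
      rw [← mul_smul, show x * m = m * x from hNc.is_comm.comm x m, mul_smul, hx]
    have hNn : Nat.card N = n := by
      rw [← hn, ← Nat.card_eq_fintype_card]
      refine Nat.card_eq_of_bijective (fun x : N => x • α) ⟨fun a b hab => ?_,
        fun y => MulAction.exists_smul_eq N α y⟩
      refine inv_mul_eq_one.1 (hreg (b⁻¹ * a) ?_) |>.symm
      rw [mul_smul]
      exact inv_smul_eq_iff.2 hab
    set St := MulAction.stabilizer G α with hSt
    have hcard : Nat.card G = n * Nat.card St := by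
      rw [← St.card_mul_index, hSt, MulAction.index_stabilizer_of_transitive G α,
        Nat.card_eq_fintype_card (α := Ω), hn, mul_comm]
    obtain ⟨S, hS, hS1, hScard⟩ := CfsgLib.Maximal.CompLengthBound.exists_small_generating N
    let φ : St →* MulAut N := (MulAut.conjNormal (H := N)).comp St.subtype
    have hφ : ∀ (g : St) (x : N), ((φ g x : N) : G) = (g : G) * x * (g : G)⁻¹ :=
      fun g x => MulAut.conjNormal_apply _ _
    have hφinj : Function.Injective φ := by
      intro g h hgh
      refine Subtype.ext (eq_of_smul_eq_smul fun y : Ω => ?_)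
      obtain ⟨x, hx⟩ := MulAction.exists_smul_eq N α y
      have e := congrArg (fun ψ : MulAut N => ((ψ x : N) : G)) hgh
      simp only [hφ] at e
      have e1 : ∀ a : G, a • α = α → a • ((x : G) • α) = (a * x * a⁻¹) • α := fun a ha => by
        have : a⁻¹ • α = α := by rw [inv_smul_eq_iff, ha]
        rw [mul_smul, mul_smul, this]
      rw [← hx]
      show (g : G) • ((x : G) • α) = (h : G) • ((x : G) • α)
      rw [e1 _ g.2, e1 _ h.2, e]
    haveI := Fintype.ofFinite N
    let emb : St → (S ↪ {x : N // x ≠ 1}) := fun g =>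
      ⟨fun s => ⟨φ g s.1, fun h => hS1 ((φ g).map_eq_one_iff.1 h ▸ s.2)⟩,
        fun a b hab => Subtype.ext ((φ g).injective (congrArg Subtype.val hab))⟩
    have hemb : Function.Injective emb := by
      intro g h hgh
      apply hφinj
      refine MulEquiv.ext fun x => ?_
      have : Subgroup.closure (S : Set N) ≤
          MonoidHom.eqLocus (φ g).toMonoidHom (φ h).toMonoidHom :=
        (Subgroup.closure_le _).2 fun s hs => by
          show φ g s = φ h s
          exact congrArg Subtype.val (DFunLike.congr_fun hgh ⟨s, hs⟩)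
      exact this (hS ▸ Subgroup.mem_top x)
    have hStle : Nat.card St ≤ (n - 1).descFactorial S.card := by
      refine (Nat.card_le_card_of_injective emb hemb).trans (le_of_eq ?_)
      rw [Nat.card_eq_fintype_card, Fintype.card_embedding_eq, Fintype.card_coe,
        Fintype.card_subtype_compl, Fintype.card_subtype_eq, ← Nat.card_eq_fintype_card (α := N), hNn]
    refine KBound.of_card (hcard ▸ (Nat.mul_le_mul_left n hStle).trans ?_)
    exact arith_regular_pow (by omega) (hNn ▸ hScard)
  -- blocks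
  have hqsurj : Function.Surjective q := fun i => Quotient.exists_rep i
  have hlt : Fintype.card ι < n := by
    rw [← hn]
    refine lt_of_le_of_ne (Fintype.card_le_of_surjective q hqsurj) fun e => hNne ?_
    have hinj := ((Fintype.bijective_iff_surjective_and_card q).2 ⟨hqsurj, e.symm⟩).1
    refine (Subgroup.eq_bot_iff_forall _).2 fun x hx => eq_of_smul_eq_smul fun y : Ω => ?_
    rw [one_smul]
    exact hinj (Quotient.sound ⟨⟨x, hx⟩, rfl⟩)
  letI : SMul G ι := ⟨fun g i => Quotient.liftOn i (fun a => q (g • a))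
    fun a b hab => hq g a b (Quotient.sound hab)⟩
  letI : MulAction G ι :=
    { one_smul := fun i => Quotient.inductionOn i fun a => congrArg q (one_smul G a)
      mul_smul := fun g h i => Quotient.inductionOn i fun a => congrArg q (mul_smul g h a) }
  let σ := MulAction.toPermHom G ι
  have hfib : ∀ (i : ι) (g : σ.ker), ∀ x ∈ {x | q x = i}, (g : G) • x ∈ {x | q x = i} := by
    intro i g x hx
    have h1 : q ((g : G) • x) = q x := DFunLike.congr_fun (MonoidHom.mem_ker.1 g.2 : σ g = 1) (q x)
    exact h1.trans hx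
  have hpos : ∀ i : ι, 1 ≤ Fintype.card {x | q x = i} := fun i =>
    Fintype.card_pos_iff.2 ⟨⟨(hqsurj i).choose, (hqsurj i).choose_spec⟩⟩
  have hsum : ∑ i : ι, Fintype.card {x | q x = i} = n := by
    rw [← hn, ← Fintype.card_congr (Equiv.sigmaFiberEquiv q), Fintype.card_sigma]
    rfl
  have hι : 1 < Fintype.card ι := by
    have : 0 < Fintype.card ι := Fintype.card_pos_iff.2 ⟨q α⟩
    omega
  have hfac : ∀ i : ι, Fintype.card {x | q x = i} < n := by
    intro i
    obtain ⟨j, hj⟩ := Fintype.exists_ne_of_one_lt_card hι i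
    have h1 : Fintype.card {x | q x = i} + Fintype.card {x | q x = j} ≤ n := by
      rw [← hsum, ← Finset.sum_pair (f := fun i => Fintype.card {x | q x = i}) hj.symm]
      exact Finset.sum_le_sum_of_subset (Finset.subset_univ _)
    have := hpos j
    omega
  let f : ∀ i : ι, σ.ker →* Equiv.Perm {x | q x = i} := fun i => inducedHom _ (hfib i)
  have h1 : KBound σ.ker (∏ i : ι, 3 ^ (Fintype.card {x | q x = i} - 1)) := by
    refine KBound.of_jointly_injective (P := fun i => σ.ker ⧸ (f i).ker) Finset.univ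
      (fun i => QuotientGroup.mk' _) ?_ _ fun i _ => (ih _ (hfac i)).of_quot inferInstance (f i) rfl
    intro x hx
    refine Subtype.ext (eq_of_smul_eq_smul fun y : Ω => ?_)
    rw [OneMemClass.coe_one, one_smul]
    have h2 : f (q y) x = 1 := (QuotientGroup.eq_one_iff x).1 (hx (q y) (Finset.mem_univ _))
    exact congrArg Subtype.val (DFunLike.congr_fun h2 ⟨y, rfl⟩)
  have h2 : KBound (G ⧸ σ.ker) (3 ^ (Fintype.card ι - 1)) := (ih _ hlt).of_quot hG σ rfl
  have h3 := KBound.of_hom (QuotientGroup.mk' σ.ker)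
    (a := ∏ i : ι, 3 ^ (Fintype.card {x | q x = i} - 1))
    (by rw [QuotientGroup.ker_mk']; exact h1) h2
  refine h3.mono ?_
  rw [Finset.prod_pow_eq_pow_sum, ← pow_add]
  refine Nat.pow_le_pow_right (by norm_num) ?_
  have := sum_sub_one_add_card _ hpos
  omega

end CfsgLib.ClassBound
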